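import Cfsg.Agent.Lib.Co1Type32.Layer
import Mathlib.GroupTheory.SpecificGroups.Alternating

/-!
# Conway type: the centraliser of the Hall-Janko group is `A₅`

It is `Y = M₂ ∩ n M₂ n⁻¹`.

Owner: helper32.
-/

set_option autoImplicit false
set_option maxRecDepth 100000
set_option linter.style.haveILetI false

namespace Cfsg.Agent.Lib.Co1Type32

open Cfsg.Agent.Lib.Co1Type31

theorem five_bn : ∀ ws ∈ evD, five ws = true → ∀ d ∈ d0, d ≠ 0 →
    bn d (prs ws d) = true ∨ bn d (prs ws (prs ws d)) = true := by decide +kernel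

theorem two_image : ∀ k < 256, qn k = false → bn k 1 = true → bn k 12 = false → bn k 52 = false →
    ∃ a ∈ d0, eich a 2 = k := by decide +kernel

theorem eich_d0 : ∀ a ∈ d0, a ∈ w6 ∧ eich a 1 = 1 ∧ eich a 12 = 12 ∧ eich a 52 = 52 := by decide +kernel

theorem eich_fix : ∀ a ∈ w6, eich a 12 = 12 → eich a 52 = 52 → a ∈ d0 := by decide +kernel

theorem b1_d0 : ∀ a ∈ d0, b1 a = false := by decide +kernel

theorem two_bn : qn 2 = false ∧ bn 2 1 = true ∧ bn 2 12 = false ∧ bn 2 52 = false := by decide +kernel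

variable {G : Type*} [Group G] [Finite G] {z : G} {Q : Subgroup G} {co : G → ℕ} {ac : G → ℕ → ℕ}
  {x n b : G} {β : List (ℕ × ℕ)}

/-- The candidate for the centraliser. -/
def cenY (z : G) (Q : Subgroup G) (co : G → ℕ) (n : G) : Subgroup G :=
  partTwo z Q co ⊓ (partTwo z Q co).map (MulAut.conj n).toMonoidHom

omit [Finite G] in
theorem mem_conjTwo {g : G} :
    g ∈ (partTwo z Q co).map (MulAut.conj n).toMonoidHom ↔ n⁻¹ * g * n ∈ partTwo z Q co :=
  ⟨by rintro ⟨m, hm, rfl⟩; simpa [mul_assoc] using hm, fun h => ⟨_, h, by simp [mul_assoc]⟩⟩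

omit [Finite G] in
theorem commute_unconj {a c : G} (h : Commute (n⁻¹ * a * n) (n⁻¹ * c * n)) : Commute a c := by
  have := h.map (MulAut.conj n).toMonoidHom
  simpa [mul_assoc] using this

namespace Fx

variable (f : Fx z Q co ac x n b β)
include f

theorem x_one : x ∈ partOne z Q co := (f.one_inter f.duo.xQ).2 f.inR_x

theorem z_one : z ∈ partOne z Q co := (f.one_inter f.fr.es.mem).2 f.inR_z

theorem nE : (EB b).map (MulAut.conj n).toMonoidHom = EB b := E_conj f.nb

theorem n_E {c : G} (hc : c ∈ EB b) : n * c * n⁻¹ ∈ EB b := by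
  rw [← f.nE]; exact Subgroup.mem_map_of_mem _ hc

theorem n_E' {c : G} (hc : c ∈ EB b) : n⁻¹ * c * n ∈ EB b := by
  rw [← f.nE] at hc
  obtain ⟨d, hd, rfl⟩ := hc
  simpa [mul_assoc] using hd

/-- The first part and its image centralise `Y`. -/
theorem Y_commute {y m : G} (hy : y ∈ cenY z Q co n) (hm : m ∈ partOne z Q co) :
    Commute m y ∧ Commute (n * m * n⁻¹) y := by
  refine ⟨f.commute_parts hm hy.1, commute_unconj (n := n) ?_⟩
  rw [show n⁻¹ * (n * m * n⁻¹) * n = m by group]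
  exact f.commute_parts hm (mem_conjTwo.1 hy.2)

/-- `E` is generated by the first part and its image, as both centralise the same subgroups. -/
theorem E_le_centralizer : EB b ≤ Subgroup.centralizer (cenY z Q co n : Set G) := by
  classical
  set E₀ := EB b ⊓ Subgroup.centralizer (cenY z Q co n : Set G) with hE₀
  suffices h : E₀ = EB b by rw [← h]; exact inf_le_right
  have h1 : ∀ {m}, m ∈ partOne z Q co → m ∈ E₀ := fun {m} hm =>
    ⟨f.partOne_E hm, fun y hy => (f.Y_commute hy hm).1.eq.symm⟩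
  have h2 : ∀ {m}, m ∈ partOne z Q co → n * m * n⁻¹ ∈ E₀ := fun {m} hm =>
    ⟨f.n_E (f.partOne_E hm), fun y hy => (f.Y_commute hy hm).2.eq.symm⟩
  have hR : ∀ {q}, InR Q co q → q ∈ E₀ := fun hq => h1 ((f.one_inter hq.1).2 hq)
  set zE : E₀ := ⟨z, h1 f.z_one⟩ with hzE
  set R₀ := Q.subgroupOf E₀ with hR₀
  have hinR : ∀ {p : E₀}, (p : G) ∈ Q → InR Q co (p : G) := fun {p} hp =>
    f.inR_iff.2 ⟨hp, (mem_CB.1 (EB_le p.2.1)).symm⟩
  have hz1 : zE ≠ 1 := fun e => f.fr.es.ne (congrArg Subtype.val e)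
  have hzsq : zE * zE = 1 := Subtype.ext f.fr.es.sq
  have hcR : Nat.card R₀ = 32 := by
    rw [← f.card_R]
    refine (Nat.card_eq_of_bijective
      (fun q : ↥(Q ⊓ Subgroup.centralizer ({b} : Set G)) =>
        (⟨⟨q, hR (f.inR_iff.2 ⟨q.2.1, (mem_CB.1 q.2.2).symm⟩)⟩, q.2.1⟩ : R₀)) ⟨?_, ?_⟩).symm
    · exact fun p q e => Subtype.ext (congrArg (fun r : R₀ => ((r : E₀) : G)) e)
    · rintro ⟨⟨p, hp⟩, hpQ⟩
      exact ⟨⟨p, hpQ, EB_le hp.1⟩, rfl⟩
  have hcz : Nat.card (Subgroup.centralizer ({zE} : Set E₀)) = 1920 := by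
    rw [← f.card_one]
    refine (Nat.card_eq_of_bijective (fun m : partOne z Q co => (⟨⟨m, h1 m.2⟩,
      Subgroup.mem_centralizer_singleton_iff.2 (Subtype.ext (mem_partOne.1 m.2).1.eq)⟩ :
        Subgroup.centralizer ({zE} : Set E₀))) ⟨?_, ?_⟩).symm
    · exact fun m m' e => Subtype.ext (congrArg (fun c => ((c.1 : E₀) : G)) e)
    · rintro ⟨⟨c, hc⟩, hcz⟩
      exact ⟨⟨c, f.mem_E_inter hc.1 (congrArg Subtype.val (Subgroup.mem_centralizer_singleton_iff.1 hcz))⟩, rfl⟩
  have hbase : HallJanko.Base zE R₀ := by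
    refine ⟨orderOf_eq_prime (by rw [pow_two, hzsq]) hz1,
      ⟨f.fr.es.mem, hz1, hzsq, fun p hp => Subtype.ext (f.fr.es.comm _ hp).eq, ?_, ?_⟩, hcR, hcz, ?_, ?_, ?_⟩
    · intro q hq h
      rcases f.center_R (hinR hq) fun r hr =>
        show Commute (q : G) r from (congrArg Subtype.val (h ⟨r, hR hr⟩ hr.1).eq).symm with e | e
      · exact Or.inl (Subtype.ext e)
      · exact Or.inr (Subtype.ext e)
    · intro q hq v hv
      rcases f.fr.es.conj _ hq _ hv with e | e
      · exact Or.inl (Subtype.ext e)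
      · exact Or.inr (Subtype.ext e)
    · exact fun c hc q hq => f.fr.norm _ (congrArg Subtype.val hc.eq) _ hq
    · intro c hc
      have hcz' : Commute (c : G) z := congrArg Subtype.val (hc zE f.fr.es.mem).eq
      have hm := f.mem_E_inter c.2.1 hcz'
      rcases f.fr.cent _ (f.eq_center (fun q hq => congrArg Subtype.val (hc ⟨q, hR hq⟩ hq.1).eq)
        (mem_partOne.1 hm).2) with e | e
      · exact Or.inl (Subtype.ext e)
      · exact Or.inr (Subtype.ext e)
    · obtain ⟨q, hq, hqk⟩ := f.exists_inR (k := 2) (by decide)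
      refine ⟨⟨q, hR hq⟩ * ⟨n * q * n⁻¹, h2 ((f.one_inter hq.1).2 hq)⟩, ?_⟩
      have hqz : q * z * q⁻¹ = z := (f.fr.es.comm q hq.1).mul_inv_cancel
      have e : q * (n * q * n⁻¹) * z * (q * (n * q * n⁻¹))⁻¹ = x := by
        calc _ = q * (n * (q * (n⁻¹ * z * n) * q⁻¹) * n⁻¹) * q⁻¹ := by group
          _ = q * ((n * x * n⁻¹) * (n * z * n⁻¹)) * q⁻¹ := by
            rw [f.duo.nx', f.duo.xz_conj hq.1 hqk]; group
          _ = (q * z * q⁻¹) * (q * x * q⁻¹) := by rw [f.duo.nx, f.duo.nz]; group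
          _ = x := by
            rw [hqz, f.duo.xz_conj hq.1 hqk, ← mul_assoc, ← f.duo.xz.eq, mul_assoc, f.fr.es.sq, mul_one]
      exact ⟨show q * (n * q * n⁻¹) * z * (q * (n * q * n⁻¹))⁻¹ ∈ Q from e.symm ▸ f.duo.xQ,
        fun h => f.duo.x_ne.2 (e.symm.trans (congrArg Subtype.val h))⟩
  obtain ⟨u, hu⟩ := hbase.exists_five
  obtain ⟨t, hto, htz, htb, hnc⟩ := f.exists_second
  have htE : t ∈ EB b := f.mem_E_of_pow htb (m := 2) (by rw [← hto, pow_orderOf_eq_one]) (by norm_num)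
  have ht₀ : t ∈ E₀ := h1 (f.mem_E_inter htE htz)
  obtain ⟨s, hs⟩ := hu.exists_setting ⟨zE, ⟨t, ht₀⟩, hbase.ord, by rw [Subgroup.orderOf_mk]; exact hto,
    fun h => hnc ((E₀.subtype).map_isConj h)⟩
  exact Subgroup.eq_of_le_of_card_ge inf_le_left (by rw [f.card_E, hs.card_group])

theorem cenY_le : cenY z Q co n ≤ Subgroup.centralizer (EB b : Set G) :=
  Subgroup.le_centralizer_iff.1 f.E_le_centralizer

theorem centralizer_E : Subgroup.centralizer (EB b : Set G) = cenY z Q co n := by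
  refine le_antisymm (fun c hc => ?_) f.cenY_le
  have key : ∀ {d : G}, (∀ g ∈ EB b, Commute g d) → d ∈ partTwo z Q co := fun hd =>
    mem_partTwo.2 ⟨(hd z (f.inR_E f.inR_z)).symm, fun q hq => (hd q (f.inR_E hq)).symm⟩
  have hc' : ∀ g ∈ EB b, Commute g c := fun g hg => Subgroup.mem_centralizer_iff.1 hc g hg
  refine ⟨key hc', mem_conjTwo.2 (key fun g hg => ?_)⟩
  have := (hc' _ (f.n_E hg)).map (MulAut.conj n⁻¹).toMonoidHom
  simpa [mul_assoc] using this

theorem b_mem : b ∈ cenY z Q co n := by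
  rw [← f.centralizer_E]
  exact Subgroup.mem_centralizer_iff.2 fun g hg => (mem_CB.1 (EB_le hg)).eq

theorem z_notMem : z ∉ cenY z Q co n := fun hz => by
  have h : EB b ≤ partOne z Q co := fun g hg =>
    f.mem_E_inter hg (Subgroup.mem_centralizer_iff.1 (f.cenY_le hz) g hg)
  have := Subgroup.card_le_of_le h
  rw [f.card_E, f.card_one] at this
  omega

/-- `Y` meets `Q` trivially. -/
theorem Y_inter {q : G} (hq : q ∈ cenY z Q co n) (hQ : q ∈ Q) : q = 1 := by
  have hD := (f.two_inter hQ).1 hq.1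
  by_cases h0 : co q = 0
  · exact (f.fr.co_zero q hQ h0).resolve_right fun e => f.z_notMem (e ▸ hq)
  exfalso
  have key : ∀ i : ℕ, bn (co q) (co (b ^ i * q * (b ^ i)⁻¹)) = true → False := fun i hb => by
    set r := b ^ i * q * (b ^ i)⁻¹ with hr
    have hrY : r ∈ cenY z Q co n :=
      mul_mem (mul_mem (pow_mem f.b_mem i) hq) (inv_mem (pow_mem f.b_mem i))
    have hrQ : r ∈ Q := f.fr.norm _ (f.bz.pow_left i) q hQ
    have e := f.fr.comm_Q hQ hrQ
    rw [hb] at e
    refine f.z_notMem ?_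
    have := mul_mem (inv_mem hrY) (mul_mem (mul_mem hq hrY) (inv_mem hq))
    rwa [e, inv_mul_cancel_left] at this
  have hlt := f.fr.co_lt q hQ
  rcases five_bn β f.mem f.five (co q) hD.2 h0 with hb | hb
  · exact key 1 (by rw [pow_one, f.fr.conj b f.bz q hQ, f.act _ hlt]; exact hb)
  · refine key 2 ?_
    rw [f.fr.conj _ (f.bz.pow_left 2) q hQ, pow_two, f.fr.ac_mul f.bz f.bz hlt, f.act _ hlt,
      f.act _ ((prs_lin f.okβ).lt _ hlt)]
    exact hb

theorem card_D : Nat.card ↥(partTwo z Q co ⊓ Q) = 32 := by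
  rw [card_code f.fr (L := d0) (by decide) d0_lt fun q => ?_]
  · rfl
  · rw [Subgroup.mem_inf]
    exact ⟨fun e => ⟨e.2, ((f.two_inter e.2).1 e.1).2⟩, fun e => ⟨(f.two_inter e.1).2 e, e.1⟩⟩

/-- Elements of the image of the second part centralise `z`, `x` and `R ∩ C(x)`. -/
theorem conjTwo_comm {m : G} (hm : m ∈ (partTwo z Q co).map (MulAut.conj n).toMonoidHom) :
    Commute m z ∧ ∀ q, InR Q co q → Commute q x → Commute m q := by
  have hc : ∀ g, g ∈ EB b → Commute g x → Commute m g := fun g hg hgx => by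
    refine commute_unconj (n := n) (f.commute_parts ?_ (mem_conjTwo.1 hm)).symm
    refine f.mem_E_inter (f.n_E' hg) ?_
    have := hgx.map (MulAut.conj n⁻¹).toMonoidHom
    simpa [f.duo.nz', mul_assoc] using this
  exact ⟨hc z (f.inR_E f.inR_z) f.duo.xz.symm, fun q hq hqx => hc q (f.inR_E hq) hqx⟩

theorem conjTwo_fix {m : G} (hm : m ∈ (partTwo z Q co).map (MulAut.conj n).toMonoidHom) :
    Commute m z ∧ ac m 1 = 1 ∧ ac m 12 = 12 ∧ ac m 52 = 52 := by
  obtain ⟨hmz, hc⟩ := f.conjTwo_comm hm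
  have key : ∀ k ∈ r0, b1 k = false → ac m k = k := fun k hk hb => by
    obtain ⟨q, hq, e⟩ := f.exists_inR hk
    rw [← e, ← f.fr.conj m hmz q hq.1,
      (hc q hq ((f.duo.commute_x_iff hq.1).2 (by rw [e]; exact hb))).mul_inv_cancel]
  exact ⟨hmz, key 1 (by decide) (by decide), key 12 (by decide) (by decide), key 52 (by decide) (by decide)⟩

/-- Each transvection with parameter in the second space has a lift in the image of `D`. -/
theorem exists_eich {a : ℕ} (ha : a ∈ d0) :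
    ∃ q, InD Q co q ∧ n * q * n⁻¹ ∈ (partTwo z Q co).map (MulAut.conj n).toMonoidHom ∧
      Act ac (n * q * n⁻¹) a := by
  classical
  have key : ∀ k ∈ d0, ∃ q, InD Q co q ∧ co q = k ∧ InB Q n z (n * q * n⁻¹) ∧
      n * q * n⁻¹ ∈ (partTwo z Q co).map (MulAut.conj n).toMonoidHom ∧
      ∃ a ∈ d0, Act ac (n * q * n⁻¹) a := fun k hk => by
    obtain ⟨q, hq, e⟩ := f.exists_inD hk
    have hB : InB Q n z (n * q * n⁻¹) := f.duo.B_of_A ⟨hq.1, b1_d0 _ hq.2⟩
    have hm : n * q * n⁻¹ ∈ (partTwo z Q co).map (MulAut.conj n).toMonoidHom :=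
      ⟨q, (f.two_inter hq.1).2 hq, rfl⟩
    obtain ⟨a, ha, hact⟩ := f.duo.exists_act hB
    obtain ⟨-, -, h12, h52⟩ := f.conjTwo_fix hm
    exact ⟨q, hq, e, hB, hm, a,
      eich_fix a ha ((hact 12 (by norm_num)).symm.trans h12) ((hact 52 (by norm_num)).symm.trans h52), hact⟩
  choose! g hg hgk hgB hgm F hF hact using key
  have hinj : Set.InjOn F d0.toFinset := fun k hk k' hk' e => by
    simp only [List.coe_toFinset, Set.mem_setOf_eq] at hk hk'
    have ha' := (eich_d0 _ (hF k hk)).1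
    obtain ⟨i, j, h⟩ := f.duo.act_eq ha' (hgB k hk) (hgB k' hk') (hact k hk)
      (by rw [e]; exact hact k' hk')
    have h' : g k' = g k * (n⁻¹ * ee z x i j * n) := by
      calc g k' = n⁻¹ * (n * g k' * n⁻¹) * n := by group
        _ = _ := by rw [h]; group
    obtain ⟨i', j', h''⟩ : ∃ i' j', n⁻¹ * ee z x i j * n = ee z x i' j' := by
      refine ⟨j, i, ?_⟩
      have hxz := f.duo.xz
      cases i <;> cases j <;> simp only [ee, pw, cond_true, cond_false, mul_one, one_mul]
      · simp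
      · exact f.duo.nx'
      · exact f.duo.nz'
      · rw [show n⁻¹ * (x * z) * n = (n⁻¹ * x * n) * (n⁻¹ * z * n) by group, f.duo.nz', f.duo.nx', hxz.eq]
    rw [h''] at h'
    have hco := congrArg co h'
    rw [f.fr.co_mul _ (hg k hk).1 _ (f.duo.ee_mem i' j'), hgk k hk, hgk k' hk', f.duo.co_ee] at hco
    cases i' with
    | false => simpa using hco.symm
    | true =>
      exfalso
      have h1 : (1 : ℕ) ∈ d0 := by
        have := d0_xor _ hk' _ hk
        rwa [hco, cond_true, Nat.xor_comm k 1, Nat.xor_assoc, Nat.xor_self, Nat.xor_zero] at this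
      exact absurd h1 (by decide)
  obtain ⟨k, hk, e⟩ := Finset.surjOn_of_injOn_of_card_le F
    (fun k hk => by
      simp only [List.coe_toFinset, Set.mem_setOf_eq] at hk ⊢
      exact hF k hk) hinj le_rfl (show a ∈ (d0.toFinset : Set ℕ) by simpa using ha)
  simp only [List.coe_toFinset, Set.mem_setOf_eq] at hk
  exact ⟨g k, hg k hk, hgm k hk, e ▸ hact k hk⟩

theorem card_Y_ge : 60 ≤ Nat.card (cenY z Q co n) := by
  classical
  set M := (partTwo z Q co).map (MulAut.conj n).toMonoidHom with hM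
  have hM' : Nat.card M = 1920 := by
    rw [hM, Subgroup.card_map_of_injective (show Function.Injective (MulAut.conj n).toMonoidHom from
      (MulAut.conj n).injective), f.card_two]
  have hsurj : ∀ m ∈ M, ∃ d ∈ partTwo z Q co ⊓ Q, (n * d * n⁻¹)⁻¹ * m ∈ cenY z Q co n := by
    intro m hm
    obtain ⟨hmz, h1, h12, h52⟩ := f.conjTwo_fix hm
    obtain ⟨t2, tb1, tb12, tb52⟩ := two_bn
    have hlt := f.fr.ac_lt hmz (show 2 < 256 by norm_num)
    obtain ⟨a, ha, hak⟩ := two_image _ hlt (by rw [f.fr.ac_qn hmz (by norm_num), t2])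
      (by conv_lhs => rw [← h1]
          rw [f.fr.ac_bn hmz (by norm_num) (by norm_num), tb1])
      (by conv_lhs => rw [← h12]
          rw [f.fr.ac_bn hmz (by norm_num) (by norm_num), tb12])
      (by conv_lhs => rw [← h52]
          rw [f.fr.ac_bn hmz (by norm_num) (by norm_num), tb52])
    obtain ⟨d, hd, hdm, hact⟩ := f.exists_eich ha
    obtain ⟨ha6, a1, a12, a52⟩ := eich_d0 a ha
    set u := n * d * n⁻¹ with hu
    set m' := u⁻¹ * m with hm'
    have hm'M : m' ∈ M := mul_mem (inv_mem hdm) hm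
    obtain ⟨hm'z, hc⟩ := f.conjTwo_comm hm'M
    have huz := (f.conjTwo_fix hdm).1
    have hfix2 : ac m' 2 = 2 := by
      rw [hm', f.fr.ac_mul huz.inv_left hmz (by norm_num), ← hak, ← hact 2 (by norm_num),
        f.fr.ac_inv huz (by norm_num)]
    obtain ⟨q₂, hq₂, hq₂k⟩ := f.exists_inR (k := 2) (by decide)
    -- adjust by a power of `x`
    obtain ⟨i, hi⟩ : ∃ i : Bool, Commute (pw x i * m') q₂ := by
      have hn := f.fr.norm m' hm'z q₂ hq₂.1
      rcases f.fr.co_eq hq₂.1 hn (by rw [f.fr.conj m' hm'z q₂ hq₂.1, hq₂k, hfix2]) with e | e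
      · exact ⟨false, by simpa [pw] using (show Commute m' q₂ from mul_inv_eq_iff_eq_mul.1 e)⟩
      · refine ⟨true, mul_inv_eq_iff_eq_mul.1 ?_⟩
        have hx2 : x * q₂ * x⁻¹ = q₂ * z := by
          rw [f.fr.comm_Q f.duo.xQ hq₂.1, f.duo.cox, hq₂k, bn_comm, tb1]
          rfl
        calc pw x true * m' * q₂ * (pw x true * m')⁻¹ = x * (m' * q₂ * m'⁻¹) * x⁻¹ := by
              simp only [pw, cond_true]; group
          _ = (x * q₂ * x⁻¹) * (x * z * x⁻¹) := by rw [e]; group
          _ = q₂ := by rw [hx2, f.duo.xz.mul_inv_cancel, mul_assoc, f.fr.es.sq, mul_one]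
    have hzD : z ∈ partTwo z Q co := (f.two_inter f.fr.es.mem).2 f.inD_z
    have hd' : d * pw z i ∈ partTwo z Q co ⊓ Q := by
      refine ⟨mul_mem ((f.two_inter hd.1).2 hd) ?_, mul_mem hd.1 ?_⟩
      · cases i
        · exact one_mem _
        · exact hzD
      · cases i
        · exact one_mem Q
        · exact f.fr.es.mem
    refine ⟨_, hd', ?_⟩
    have e : (n * (d * pw z i) * n⁻¹)⁻¹ * m = pw x i * m' := by
      have hp : n * (pw z i)⁻¹ * n⁻¹ = pw x i := by
        cases i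
        · simp [pw]
        · simp only [pw, cond_true, f.fr.es.zinv]
          exact f.duo.nz
      rw [← hp, hm', hu]
      group
    rw [e]
    have hpx : pw x i ∈ M := by
      cases i
      · exact one_mem M
      · exact ⟨z, hzD, f.duo.nz⟩
    obtain ⟨hMz, hMc⟩ := f.conjTwo_comm (mul_mem hpx hm'M)
    refine ⟨mem_partTwo.2 ⟨hMz, fun q hq => ?_⟩, mul_mem hpx hm'M⟩
    have hS : q ∈ Subgroup.centralizer ({pw x i * m'} : Set G) := by
      refine mem_of_codes f.fr (Subgroup.mem_centralizer_singleton_iff.2 hMz.eq.symm) (l := bR)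
        (fun r hr => ?_) q hq.1 (r0_span _ hq.2)
      by_cases hr2 : r = 2
      · subst hr2
        exact ⟨q₂, hq₂.1, hq₂k, Subgroup.mem_centralizer_singleton_iff.2 hi.eq.symm⟩
      · obtain ⟨p, hp, e⟩ := f.exists_inR (bR_mem r hr)
        refine ⟨p, hp.1, e, Subgroup.mem_centralizer_singleton_iff.2
          (hMc p hp ((f.duo.commute_x_iff hp.1).2 ?_)).eq.symm⟩
        rw [e]
        simp only [bR, List.mem_cons, List.not_mem_nil, or_false] at hr
        rcases hr with rfl | rfl | rfl | rfl <;> first | rfl | exact absurd rfl hr2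
    exact (Subgroup.mem_centralizer_singleton_iff.1 hS).symm
  let φ : ↥(partTwo z Q co ⊓ Q) × cenY z Q co n → M := fun p =>
    ⟨n * p.1 * n⁻¹ * p.2, mul_mem ⟨p.1, p.1.2.1, rfl⟩ p.2.2.2⟩
  have hφ : Function.Surjective φ := fun m => by
    obtain ⟨d, hd, hy⟩ := hsurj m m.2
    exact ⟨(⟨d, hd⟩, ⟨_, hy⟩), Subtype.ext (mul_inv_cancel_left _ _)⟩
  have := Nat.card_le_card_of_surjective φ hφ
  rw [hM', Nat.card_prod, f.card_D] at this
  omega

theorem card_Y : Nat.card (cenY z Q co n) = 60 := by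
  refine le_antisymm ?_ f.card_Y_ge
  choose w hw he using fun y : cenY z Q co n => f.partTwo_word y.2.1
  choose i hi hwi using fun y => List.getElem_of_mem (hw y)
  let φ : cenY z Q co n → Fin evD.length := fun y => ⟨i y, hi y⟩
  have hφ : Function.Injective φ := fun y y' e => by
    have ew : w y = w y' := by
      rw [← hwi y, ← hwi y']
      have e' : i y = i y' := congrArg Fin.val e
      simp only [e']
    have hz1 := (mem_partTwo.1 y.2.1).1
    have hz2 := (mem_partTwo.1 y'.2.1).1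
    refine Subtype.ext (inv_mul_eq_one.1 (f.Y_inter (mul_mem (inv_mem y.2) y'.2) ?_))
    refine f.fr.faithful _ (hz1.inv_left.mul_left hz2) fun k hk => ?_
    rw [f.fr.ac_mul hz1.inv_left hz2 hk, he y' k hk, ← ew, ← he y k hk, f.fr.ac_inv hz1 hk]
  have := Nat.card_le_card_of_injective φ hφ
  rwa [Nat.card_fin, evD_len] at this

/-- The centraliser of the Hall-Janko group is the alternating group of degree five. -/
theorem centralizer_alt :
    Nonempty (Subgroup.centralizer (EB b : Set G) ≃* alternatingGroup (Fin 5)) := by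
  classical
  rw [f.centralizer_E]
  set Y := cenY z Q co n with hY
  have hz : ∀ y : Y, Commute (y : G) z := fun y => (mem_partTwo.1 y.2.1).1
  have hpts : ∀ (y : Y), ∀ k ∈ ptsD, ac (y : G) k ∈ ptsD := fun y k hk => by
    obtain ⟨w, hw, e⟩ := f.partTwo_word y.2.1
    rw [e k (by revert k; decide)]
    exact pts_mem w hw k hk
  have hlt : ∀ k ∈ ptsD, k < 256 := by decide
  let act : Y → Equiv.Perm {k : ℕ // k ∈ ptsD} := fun y =>
    { toFun := fun k => ⟨ac (y : G) k, hpts y k k.2⟩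
      invFun := fun k => ⟨ac ((y⁻¹ : Y) : G) k, hpts y⁻¹ k k.2⟩
      left_inv := fun k => Subtype.ext (f.fr.ac_inv (hz y) (hlt k k.2))
      right_inv := fun k => Subtype.ext (f.fr.ac_inv' (hz y) (hlt k k.2)) }
  let σ : Y →* Equiv.Perm {k : ℕ // k ∈ ptsD} :=
    MonoidHom.mk' act fun y y' => Equiv.ext fun k => Subtype.ext (f.fr.ac_mul (hz y) (hz y') (hlt k k.2))
  let e5 : {k : ℕ // k ∈ ptsD} ≃ Fin 5 := Fintype.equivFinOfCardEq rfl
  let τ : Y →* Equiv.Perm (Fin 5) := e5.permCongrHom.toMonoidHom.comp σ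
  have hτ : Function.Injective τ := by
    rw [← MonoidHom.ker_eq_bot_iff, Subgroup.eq_bot_iff_forall]
    intro y hy
    have h1 : σ y = 1 := e5.permCongrHom.injective (by rw [map_one]; exact MonoidHom.mem_ker.1 hy)
    obtain ⟨w, hw, e⟩ := f.partTwo_word y.2.1
    have hfix : ∀ k ∈ ptsD, prs w k = k := fun k hk => by
      rw [← e k (hlt k hk)]
      exact congrArg Subtype.val (Equiv.congr_fun h1 ⟨k, hk⟩)
    refine Subtype.ext (f.Y_inter y.2 (f.fr.faithful _ (hz y) fun k hk => ?_))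
    rw [e k hk]
    obtain ⟨hok, hr, -⟩ := evD_spec w hw
    exact ext_all (prs_lin hok) Lin8.id' hr (ext_d0 (prs_lin hok) Lin8.id' (pts_span w hw hfix)) k hk
  have hcard : Nat.card τ.range = 60 := by
    rw [← Nat.card_congr (MonoidHom.ofInjective hτ).toEquiv, f.card_Y]
  have hidx : τ.range.index = 2 := by
    have h := τ.range.card_mul_index
    rw [hcard, Nat.card_perm, Nat.card_fin] at h
    have : Nat.factorial 5 = 120 := rfl
    omega
  exact ⟨(MonoidHom.ofInjective hτ).trans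
    (MulEquiv.subgroupCongr (Equiv.Perm.eq_alternatingGroup_of_index_eq_two hidx))⟩

end Fx

end Cfsg.Agent.Lib.Co1Type32
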