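import Cfsg.Agent.Lib.Co1Type31.Space
import Cfsg.Agent.Lib.Co1Type31.Frame

/-!
# Conway type: the orthogonal splitting of the coded space into two elliptic spaces of dimension four

`r0` is spanned by `1, 2, 12, 52` and `d0` by `64, 128, 48, 28`.

Owner: helper32.
-/

set_option autoImplicit false
set_option maxRecDepth 100000

namespace Cfsg.Agent.Lib.Co1Type32

open Cfsg.Agent.Lib.Co1Type31

/-- The sums over sublists. -/
def spanL : List ℕ → List ℕ
  | [] => [0]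
  | a :: l => spanL l ++ (spanL l).map (a ^^^ ·)

/-- The basis of the first space. -/
def bR : List ℕ := [1, 2, 12, 52]

/-- The basis of the second space. -/
def bD : List ℕ := [64, 128, 48, 28]

/-- The first space. -/
def r0 : List ℕ := [0, 1, 2, 3, 12, 13, 14, 15, 52, 53, 54, 55, 56, 57, 58, 59]

/-- The second space. -/
def d0 : List ℕ := [0, 28, 44, 48, 64, 92, 108, 112, 128, 156, 172, 176, 192, 220, 236, 240]

/-- The singular points of the second space. -/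
def ptsD : List ℕ := [64, 128, 220, 236, 240]

/-- Words for the even isometries of the second space. -/
def evD : List (List (ℕ × ℕ)) :=
  [[], [(28, 44)], [(28, 48)], [(28, 92)], [(28, 108)], [(28, 112)], [(28, 156)], [(28, 172)],
   [(28, 176)], [(28, 192)], [(44, 92)], [(44, 108)], [(44, 112)], [(44, 156)], [(44, 172)],
   [(44, 176)], [(44, 192)], [(48, 92)], [(48, 108)], [(48, 112)], [(48, 156)], [(48, 172)],
   [(48, 176)], [(48, 192)], [(92, 156)], [(92, 172)], [(92, 176)], [(92, 192)], [(108, 156)],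
   [(108, 172)], [(108, 176)], [(108, 192)], [(112, 156)], [(112, 172)], [(112, 176)],
   [(112, 192)], [(92, 156), (28, 44)], [(92, 172), (28, 44)], [(92, 176), (28, 44)],
   [(92, 192), (28, 44)], [(108, 156), (28, 44)], [(108, 172), (28, 44)], [(108, 176), (28, 44)],
   [(108, 192), (28, 44)], [(112, 156), (28, 44)], [(112, 172), (28, 44)], [(112, 176), (28, 44)],
   [(112, 192), (28, 44)], [(92, 156), (28, 48)], [(92, 172), (28, 48)], [(92, 176), (28, 48)],
   [(92, 192), (28, 48)], [(108, 156), (28, 48)], [(108, 172), (28, 48)], [(108, 176), (28, 48)],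
   [(108, 192), (28, 48)], [(112, 156), (28, 48)], [(112, 172), (28, 48)], [(112, 176), (28, 48)],
   [(112, 192), (28, 48)]]

/-- Words, in products of order three, for the even isometries of the first space. -/
def evR : List (List (ℕ × ℕ)) :=
  [[], [(3, 13)], [(3, 14)], [(3, 53)], [(3, 54)], [(3, 57)], [(3, 58)], [(12, 52)], [(12, 53)],
   [(12, 54)], [(12, 56)], [(12, 57)], [(12, 58)], [(13, 52)], [(13, 53)], [(13, 56)], [(13, 57)],
   [(14, 52)], [(14, 54)], [(14, 56)], [(14, 58)], [(3, 53), (3, 13)], [(3, 57), (3, 13)],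
   [(12, 52), (3, 13)], [(12, 53), (3, 13)], [(12, 54), (3, 13)], [(12, 56), (3, 13)],
   [(12, 57), (3, 13)], [(12, 58), (3, 13)], [(13, 52), (3, 13)], [(13, 56), (3, 13)],
   [(14, 54), (3, 13)], [(14, 58), (3, 13)], [(12, 52), (3, 14)], [(12, 53), (3, 14)],
   [(12, 54), (3, 14)], [(12, 56), (3, 14)], [(12, 57), (3, 14)], [(12, 58), (3, 14)],
   [(3, 57), (3, 53)], [(12, 52), (3, 53)], [(12, 54), (3, 53)], [(12, 57), (3, 53)],
   [(13, 52), (3, 53)], [(13, 57), (3, 53)], [(14, 52), (3, 53)], [(12, 52), (3, 54)],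
   [(13, 52), (3, 54)], [(14, 52), (3, 54)], [(14, 58), (3, 54)], [(13, 53), (3, 57)],
   [(13, 56), (3, 57)], [(14, 54), (3, 58)], [(14, 56), (3, 58)], [(12, 57), (12, 52)],
   [(12, 58), (12, 52)], [(13, 56), (12, 52)], [(13, 57), (12, 52)], [(14, 56), (12, 52)],
   [(14, 58), (12, 52)]]

/-- The signature test: the second list has the pattern of the first. -/
def okImg (b im : List ℕ) : Bool :=
  (b.zip im).all fun p => (qn p.1 == qn p.2) && (b.zip im).all fun q => bn p.1 q.1 == bn p.2 q.2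

theorem r0_iff : ∀ k < 256, (k ∈ r0 ↔ ∀ d ∈ bD, bn k d = false) := by decide +kernel

theorem d0_iff : ∀ k < 256, (k ∈ d0 ↔ ∀ r ∈ bR, bn k r = false) := by decide +kernel

theorem r0_lt : ∀ r ∈ r0, r < 256 := by decide

theorem d0_lt : ∀ d ∈ d0, d < 256 := by decide

theorem r0_span : ∀ r ∈ r0, r ∈ spanL bR := by decide +kernel

theorem d0_span : ∀ d ∈ d0, d ∈ spanL bD := by decide +kernel

theorem all_span : ∀ k < 256, k ∈ spanL (bR ++ bD) := by decide +kernel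

theorem r0_xor : ∀ a ∈ r0, ∀ b ∈ r0, a ^^^ b ∈ r0 := by decide +kernel

theorem d0_xor : ∀ a ∈ d0, ∀ b ∈ d0, a ^^^ b ∈ d0 := by decide +kernel

theorem bR_mem : ∀ r ∈ bR, r ∈ r0 := by decide

theorem bD_mem : ∀ d ∈ bD, d ∈ d0 := by decide

theorem perp : ∀ r ∈ r0, ∀ d ∈ d0, bn r d = false := by decide +kernel

theorem r0_d0 : ∀ k ∈ r0, k ∈ d0 → k = 0 := by decide +kernel

theorem split : ∀ k < 256, ∃ r ∈ r0, ∃ d ∈ d0, k = r ^^^ d := by decide +kernel

/-- Agreement on a basis gives agreement on the span. -/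
theorem ext_span {f g : ℕ → ℕ} (hf : Lin8 f) (hg : Lin8 g) :
    ∀ {b : List ℕ}, (∀ x ∈ b, x < 256) → (∀ x ∈ b, f x = g x) → ∀ k ∈ spanL b, k < 256 ∧ f k = g k
  | [], _, _, k, hk => by
    simp only [spanL, List.mem_singleton] at hk
    subst hk
    exact ⟨by norm_num, by rw [hf.zero, hg.zero]⟩
  | a :: l, hlt, he, k, hk => by
    simp only [spanL, List.mem_append, List.mem_map] at hk
    have ih := @ext_span f g hf hg l (fun x hx => hlt x (List.mem_cons_of_mem _ hx))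
      (fun x hx => he x (List.mem_cons_of_mem _ hx))
    rcases hk with hk | ⟨j, hj, rfl⟩
    · exact ih k hk
    · have ha := hlt a List.mem_cons_self
      obtain ⟨hjl, hje⟩ := ih j hj
      exact ⟨xor_lt ha hjl, by rw [hf.add a ha j hjl, hg.add a ha j hjl, he a List.mem_cons_self, hje]⟩

theorem ext_r0 {f g : ℕ → ℕ} (hf : Lin8 f) (hg : Lin8 g) (h : ∀ x ∈ bR, f x = g x) :
    ∀ r ∈ r0, f r = g r := fun r hr =>
  (ext_span hf hg (fun x hx => r0_lt x (bR_mem x hx)) h r (r0_span r hr)).2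

theorem ext_d0 {f g : ℕ → ℕ} (hf : Lin8 f) (hg : Lin8 g) (h : ∀ x ∈ bD, f x = g x) :
    ∀ d ∈ d0, f d = g d := fun d hd =>
  (ext_span hf hg (fun x hx => d0_lt x (bD_mem x hx)) h d (d0_span d hd)).2

theorem ext_all {f g : ℕ → ℕ} (hf : Lin8 f) (hg : Lin8 g) (hr : ∀ r ∈ r0, f r = g r)
    (hd : ∀ d ∈ d0, f d = g d) : ∀ k < 256, f k = g k := fun k hk => by
  obtain ⟨r, hr', d, hd', rfl⟩ := split k hk
  rw [hf.add r (r0_lt r hr') d (d0_lt d hd'), hg.add r (r0_lt r hr') d (d0_lt d hd'), hr r hr', hd d hd']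

theorem prs_append (a b : List (ℕ × ℕ)) (k : ℕ) : prs (a ++ b) k = prs a (prs b k) :=
  List.foldr_append

theorem evR_spec : ∀ ws ∈ evR, okWord ws = true ∧ (∀ d ∈ d0, prs ws d = d) ∧ ∀ r ∈ r0, prs ws r ∈ r0 := by
  decide +kernel

theorem evD_spec : ∀ ws ∈ evD, okWord ws = true ∧ (∀ r ∈ r0, prs ws r = r) ∧ ∀ d ∈ d0, prs ws d ∈ d0 := by
  decide +kernel

theorem refl3_spec : (3 : ℕ) < 256 ∧ qn 3 = true ∧ (∀ d ∈ d0, refl 3 d = d) ∧ ∀ r ∈ r0, refl 3 r ∈ r0 := by
  decide +kernel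

theorem refl28_spec : (28 : ℕ) < 256 ∧ qn 28 = true ∧ (∀ r ∈ r0, refl 28 r = r) ∧ ∀ d ∈ d0, refl 28 d ∈ d0 := by
  decide +kernel

/-- The test for the table of the isometries of a space with basis `b0, b1, b2, b3`. -/
def isoTab (S : List ℕ) (b0 b1 b2 b3 v : ℕ) (ev : List (List (ℕ × ℕ))) : Bool :=
  S.all fun a => !(okImg [b0] [a]) || S.all fun b => !(okImg [b0, b1] [a, b]) || S.all fun c =>
    !(okImg [b0, b1, b2] [a, b, c]) || S.all fun e => !(okImg [b0, b1, b2, b3] [a, b, c, e]) ||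
      ev.any (fun ws => ([b0, b1, b2, b3].map (prs ws) == [a, b, c, e]) ||
        ([b0, b1, b2, b3].map (fun k => refl v (prs ws k)) == [a, b, c, e]))

theorem isoTab_R : isoTab r0 1 2 12 52 3 evR = true := by decide +kernel

theorem isoTab_D : isoTab d0 64 128 48 28 28 evD = true := by decide +kernel

theorem okImg_of {f : ℕ → ℕ} (hf : Iso8 f) {b : List ℕ} (hb : ∀ x ∈ b, x < 256) :
    okImg b (b.map f) = true := by
  have hz : ∀ p ∈ b.zip (b.map f), p.1 < 256 ∧ p.2 = f p.1 := by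
    induction b with
    | nil => simp
    | cons a l ih =>
      intro p hp
      simp only [List.map_cons, List.zip_cons_cons, List.mem_cons] at hp
      rcases hp with rfl | hp
      · exact ⟨hb a List.mem_cons_self, rfl⟩
      · exact ih (fun x hx => hb x (List.mem_cons_of_mem _ hx)) p hp
  refine List.all_eq_true.2 fun p hp => ?_
  obtain ⟨p1, p2⟩ := hz p hp
  simp only [Bool.and_eq_true, beq_iff_eq]
  refine ⟨by rw [p2, hf.pres _ p1], List.all_eq_true.2 fun q hq => ?_⟩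
  obtain ⟨q1, q2⟩ := hz q hq
  simp only [beq_iff_eq]
  rw [p2, q2, hf.bn_eq p1 q1]

theorem iso_cases {f : ℕ → ℕ} (hf : Iso8 f) {S : List ℕ} {b0 b1 b2 b3 v : ℕ}
    {ev : List (List (ℕ × ℕ))} (ht : isoTab S b0 b1 b2 b3 v ev = true)
    (h0 : b0 < 256 ∧ f b0 ∈ S) (h1 : b1 < 256 ∧ f b1 ∈ S) (h2 : b2 < 256 ∧ f b2 ∈ S)
    (h3 : b3 < 256 ∧ f b3 ∈ S) :
    ∃ ws ∈ ev, (∀ x ∈ [b0, b1, b2, b3], f x = prs ws x) ∨
      ∀ x ∈ [b0, b1, b2, b3], f x = refl v (prs ws x) := by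
  have ok : ∀ l : List ℕ, (∀ x ∈ l, x < 256) → okImg l (l.map f) = true := fun l hl => okImg_of hf hl
  have k1 := List.all_eq_true.1 ht _ h0.2
  rw [show okImg [b0] [f b0] = true from ok [b0] (by simp [h0.1]), Bool.not_true, Bool.false_or] at k1
  have k2 := List.all_eq_true.1 k1 _ h1.2
  rw [show okImg [b0, b1] [f b0, f b1] = true from ok [b0, b1] (by simp [h0.1, h1.1]), Bool.not_true,
    Bool.false_or] at k2
  have k3 := List.all_eq_true.1 k2 _ h2.2
  rw [show okImg [b0, b1, b2] [f b0, f b1, f b2] = true from ok [b0, b1, b2] (by simp [h0.1, h1.1, h2.1]),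
    Bool.not_true, Bool.false_or] at k3
  have k4 := List.all_eq_true.1 k3 _ h3.2
  rw [show okImg [b0, b1, b2, b3] [f b0, f b1, f b2, f b3] = true from
    ok [b0, b1, b2, b3] (by simp [h0.1, h1.1, h2.1, h3.1]), Bool.not_true, Bool.false_or] at k4
  obtain ⟨ws, hws, hk⟩ := List.any_eq_true.1 k4
  simp only [Bool.or_eq_true, beq_iff_eq, List.map_cons, List.map_nil, List.cons.injEq, and_true] at hk
  refine ⟨ws, hws, hk.imp ?_ ?_⟩ <;>
  · rintro ⟨e0, e1, e2, e3⟩ x hx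
    simp only [List.mem_cons, List.not_mem_nil, or_false] at hx
    rcases hx with rfl | rfl | rfl | rfl
    exacts [e0.symm, e1.symm, e2.symm, e3.symm]

theorem spanR_hit : ∀ ws ∈ evR, ∀ r ∈ bR, (∃ s ∈ r0, prs ws s = r) ∧ ∃ s ∈ r0, refl 3 (prs ws s) = r := by
  decide +kernel

/-- An isometry preserving the first space: the four cases. -/
theorem iso_split {f : ℕ → ℕ} (hf : Iso8 f) (hR : ∀ r ∈ r0, f r ∈ r0) :
    (∀ d ∈ d0, f d ∈ d0) ∧ ∃ wR ∈ evR, ∃ wD ∈ evD,
      ((∀ k < 256, f k = prs (wR ++ wD) k) ∨ (∀ k < 256, f k = prs ((3, 28) :: (wR ++ wD)) k)) ∨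
      ((∀ k < 256, f k = refl 3 (prs (wR ++ wD) k)) ∨ ∀ k < 256, f k = refl 28 (prs (wR ++ wD) k)) := by
  obtain ⟨wR, hwR, hfR⟩ := iso_cases hf isoTab_R ⟨by norm_num, hR 1 (by decide)⟩
    ⟨by norm_num, hR 2 (by decide)⟩ ⟨by norm_num, hR 12 (by decide)⟩ ⟨by norm_num, hR 52 (by decide)⟩
  obtain ⟨hR1, hR2, hR3⟩ := evR_spec wR hwR
  have lR := prs_lin hR1
  have lR3 := (refl_lin refl3_spec.1).comp lR
  have hD : ∀ d ∈ d0, f d ∈ d0 := by
    intro d hd
    refine (d0_iff _ (hf.lt d (d0_lt d hd))).2 fun r hr => ?_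
    obtain ⟨s, hs, e⟩ : ∃ s ∈ r0, f s = r := by
      rcases hfR with e | e
      · obtain ⟨s, hs, e'⟩ := (spanR_hit wR hwR r hr).1
        exact ⟨s, hs, (ext_r0 hf.toLin8 lR e s hs).trans e'⟩
      · obtain ⟨s, hs, e'⟩ := (spanR_hit wR hwR r hr).2
        exact ⟨s, hs, (ext_r0 hf.toLin8 lR3 e s hs).trans e'⟩
    rw [← e, hf.bn_eq (d0_lt d hd) (r0_lt s hs), bn_comm]
    exact perp s hs d hd
  obtain ⟨wD, hwD, hfD⟩ := iso_cases hf isoTab_D ⟨by norm_num, hD 64 (by decide)⟩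
    ⟨by norm_num, hD 128 (by decide)⟩ ⟨by norm_num, hD 48 (by decide)⟩ ⟨by norm_num, hD 28 (by decide)⟩
  obtain ⟨hD1, hD2, hD3⟩ := evD_spec wD hwD
  have lD := prs_lin hD1
  have lD28 := (refl_lin refl28_spec.1).comp lD
  have lf := lR.comp lD
  refine ⟨hD, wR, hwR, wD, hwD, ?_⟩
  have aR : ∀ r ∈ r0, prs (wR ++ wD) r = prs wR r := fun r hr => by rw [prs_append, hD2 r hr]
  have aD : ∀ d ∈ d0, prs (wR ++ wD) d = prs wD d := fun d hd => by rw [prs_append, hR2 _ (hD3 d hd)]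
  have lA : Lin8 (prs (wR ++ wD)) := by
    have e : prs (wR ++ wD) = fun k => prs wR (prs wD k) := funext (prs_append wR wD)
    rw [e]; exact lf
  rcases hfR with eR | eR <;> rcases hfD with eD | eD
  · exact Or.inl (Or.inl (ext_all hf.toLin8 lA (fun r hr => by rw [aR r hr, ext_r0 hf.toLin8 lR eR r hr])
      fun d hd => by rw [aD d hd, ext_d0 hf.toLin8 lD eD d hd]))
  · exact Or.inr (Or.inr (ext_all hf.toLin8 ((refl_lin refl28_spec.1).comp lA)
      (fun r hr => by rw [aR r hr, ext_r0 hf.toLin8 lR eR r hr, refl28_spec.2.2.1 _ (hR3 r hr)])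
      fun d hd => by rw [aD d hd, ext_d0 hf.toLin8 lD28 eD d hd]))
  · exact Or.inr (Or.inl (ext_all hf.toLin8 ((refl_lin refl3_spec.1).comp lA)
      (fun r hr => by rw [aR r hr, ext_r0 hf.toLin8 lR3 eR r hr])
      fun d hd => by rw [aD d hd, ext_d0 hf.toLin8 lD eD d hd, refl3_spec.2.2.1 _ (hD3 d hd)]))
  · refine Or.inl (Or.inr (ext_all hf.toLin8
      ((pr_lin (p := (3, 28)) refl3_spec.1 refl28_spec.1).comp lA) (fun r hr => ?_) fun d hd => ?_))
    · show f r = refl 3 (refl 28 (prs (wR ++ wD) r))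
      rw [aR r hr, refl28_spec.2.2.1 _ (hR3 r hr), ext_r0 hf.toLin8 lR3 eR r hr]
    · show f d = refl 3 (refl 28 (prs (wR ++ wD) d))
      rw [aD d hd, refl3_spec.2.2.1 _ (refl28_spec.2.2.2 _ (hD3 d hd)), ext_d0 hf.toLin8 lD28 eD d hd]

/-- The iterate of a word. -/
def pwW (ws : List (ℕ × ℕ)) : ℕ → List (ℕ × ℕ)
  | 0 => []
  | i + 1 => ws ++ pwW ws i

/-- A word of order five. -/
def five (ws : List (ℕ × ℕ)) : Bool :=
  !(bD.map (prs ws) == bD) && (bD.map (prs (pwW ws 5)) == bD)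

/-- Words which double the elements of order five. -/
def dbl : List (List (ℕ × ℕ)) := evD.map ((3, 28) :: ·)

theorem dbl_ok : ∀ w ∈ dbl, okWord w = true ∧ ∀ r ∈ r0, prs w r ∈ r0 := by decide +kernel

theorem five_dbl : ∀ ws ∈ evD, five ws = true → ∃ w ∈ dbl,
    ∀ k ∈ bR ++ bD, prs w (prs ws k) = prs ws (prs ws (prs w k)) := by decide +kernel

theorem five_comm : ∀ ws ∈ evD, five ws = true → ∀ w ∈ evD,
    bD.map (fun k => prs w (prs ws k)) = bD.map (fun k => prs ws (prs w k)) →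
      ∃ i < 5, bD.map (prs w) = bD.map (prs (pwW ws i)) := by decide +kernel

theorem five_odd : ∀ ws ∈ evD, five ws = true → ∀ w ∈ evD, ∃ k ∈ bD,
    refl 28 (prs w (prs ws k)) ≠ prs ws (refl 28 (prs w k)) := by decide +kernel

theorem five_fix : ∀ ws ∈ evD, five ws = true → ∀ d ∈ d0, prs ws d = d → d = 0 := by decide +kernel

theorem five_orbit : ∀ ws ∈ evD, five ws = true → ∀ d ∈ d0, d ≠ 0 →
    ∀ e ∈ d0, e ∈ spanL [d, prs ws d, prs ws (prs ws d), prs ws (prs ws (prs ws d))] := by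
  decide +kernel

theorem five_eich : ∀ ws ∈ evD, ∀ k ∈ bR ++ bD, prs ws (eich 12 k) = eich 12 (prs ws k) := by
  decide +kernel

theorem refl3_ne : ∀ w ∈ evR, ∃ r ∈ bR, refl 3 (prs w r) ≠ r := by decide +kernel

theorem pts_span : ∀ ws ∈ evD, (∀ k ∈ ptsD, prs ws k = k) → ∀ d ∈ bD, prs ws d = d := by
  decide +kernel

theorem pts_mem : ∀ ws ∈ evD, ∀ k ∈ ptsD, prs ws k ∈ ptsD := by decide +kernel

theorem evR_pairs : ∀ ws ∈ evR, ∀ p ∈ ws, p.1 < 256 ∧ p.2 < 256 ∧ qn p.1 = true ∧ qn p.2 = true ∧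
    (∀ d ∈ d0, pr p d = d) ∧ (∀ r ∈ r0, pr p r ∈ r0) ∧ ∀ k ∈ bR ++ bD, pr p (pr p (pr p k)) = k := by
  decide +kernel

theorem evR_inj : (evR.map fun w => bR.map (prs w)).Nodup := by decide +kernel

theorem evD_inj : (evD.map fun w => bD.map (prs w)).Nodup := by decide +kernel

theorem pw_inj : ∀ ws ∈ evD, five ws = true →
    ((List.range 5).map fun i => bD.map (prs (pwW ws i))).Nodup := by decide +kernel

theorem functional_R : ∀ a b c e : Bool, ∃ k ∈ r0, bR.map (bn k) = [a, b, c, e] := by decide +kernel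

theorem partner : ∀ k < 256, qn k = false → bn 1 k = true →
    k &&& 252 ∈ w6 ∧ eich (k &&& 252) k = 2 ∧ eich (k &&& 252) 1 = 1 := by decide +kernel

theorem twelve : ∀ k ∈ w6, qn k = true → bn 12 k = true → ∃ p ∈ pairs6, pr p 12 = 12 ∧ pr p k ∈ r0 ∧
    pr p k ^^^ 12 ≠ 0 := by decide +kernel

end Cfsg.Agent.Lib.Co1Type32
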