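import Cfsg.Agent.Lib.Co1Type32.Parts

/-!
# Conway type: the orders of the two parts, `2⁵ · 60` each

Owner: helper32.
-/

set_option autoImplicit false
set_option maxRecDepth 100000
set_option linter.style.haveILetI false

namespace Cfsg.Agent.Lib.Co1Type32

open Cfsg.Agent.Lib.Co1Type31

variable {G : Type*} [Group G] {z : G} {Q : Subgroup G} {co : G → ℕ} {ac : G → ℕ → ℕ}

/-- A subgroup containing `z` and an element over each vector of a list contains the preimage of the span. -/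
theorem mem_of_codes (h : Frame z Q co ac) {S : Subgroup G} (hz : z ∈ S) {l : List ℕ}
    (hl : ∀ a ∈ l, ∃ q ∈ Q, co q = a ∧ q ∈ S) : ∀ q ∈ Q, co q ∈ spanL l → q ∈ S := by
  induction l with
  | nil =>
    intro q hq hk
    simp only [spanL, List.mem_singleton] at hk
    rcases h.co_zero q hq hk with rfl | rfl
    · exact one_mem S
    · exact hz
  | cons a l ih =>
    intro q hq hk
    have ih' := ih fun x hx => hl x (List.mem_cons_of_mem _ hx)
    simp only [spanL, List.mem_append, List.mem_map] at hk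
    rcases hk with hk | ⟨j, hj, hjk⟩
    · exact ih' q hq hk
    · obtain ⟨r, hr, hra, hrS⟩ := hl a List.mem_cons_self
      have hco : co (r * q) = j := by
        rw [h.co_mul r hr q hq, hra, ← hjk, ← Nat.xor_assoc, Nat.xor_self, Nat.zero_xor]
      have := mul_mem (inv_mem hrS) (ih' (r * q) (mul_mem hr hq) (hco ▸ hj))
      rwa [inv_mul_cancel_left] at this

theorem card_code (h : Frame z Q co ac) {S : Subgroup G} {L : List ℕ} (hL : L.Nodup)
    (hlt : ∀ k ∈ L, k < 256) (hS : ∀ q, q ∈ S ↔ q ∈ Q ∧ co q ∈ L) : Nat.card S = 2 * L.length := by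
  classical
  choose g hg hgk using fun i : Fin L.length => h.co_surj L[i] (hlt _ (List.getElem_mem _))
  have hz : ∀ b : Bool, pw z b ∈ Q ∧ co (pw z b) = 0 := fun b => by
    cases b
    · exact ⟨one_mem Q, h.co_one⟩
    · exact ⟨h.es.mem, h.co_z⟩
  have hco : ∀ (i : Fin L.length) (b : Bool), co (g i * pw z b) = L[i] := fun i b => by
    rw [h.co_mul _ (hg i) _ (hz b).1, (hz b).2, Nat.xor_zero, hgk]
  let f : Fin L.length × Bool → S := fun p =>
    ⟨g p.1 * pw z p.2, (hS _).2 ⟨mul_mem (hg _) (hz _).1, by rw [hco]; exact List.getElem_mem _⟩⟩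
  have hf : Function.Bijective f := by
    refine ⟨fun p p' e => ?_, fun q => ?_⟩
    · have e' : g p.1 * pw z p.2 = g p'.1 * pw z p'.2 := congrArg Subtype.val e
      have e1 : p.1 = p'.1 := by
        have := congrArg co e'
        rw [hco, hco] at this
        exact Fin.ext (hL.getElem_inj_iff.1 this)
      rw [e1, mul_left_cancel_iff] at e'
      refine Prod.ext e1 ?_
      cases hb : p.2 <;> cases hb' : p'.2 <;> rw [hb, hb'] at e' <;>
        first | rfl | exact absurd e' h.es.ne | exact absurd e'.symm h.es.ne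
    · obtain ⟨hq, hk⟩ := (hS q).1 q.2
      obtain ⟨i, hi, e⟩ := List.getElem_of_mem hk
      rcases h.co_eq (hg ⟨i, hi⟩) hq (by rw [hgk]; exact e) with e' | e'
      · exact ⟨(⟨i, hi⟩, false), Subtype.ext (by show g _ * pw z false = _; rw [e']; simp [pw])⟩
      · exact ⟨(⟨i, hi⟩, true), Subtype.ext (by show g _ * pw z true = _; rw [e']; simp [pw])⟩
  rw [← Nat.card_eq_of_bijective f hf, Nat.card_prod, Nat.card_fin, Nat.card_eq_two_iff.2 ⟨false, true, by simp, by ext b; cases b <;> simp⟩, mul_comm]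

/-- The order of a subgroup of `C(z)` from the words giving its action. -/
theorem card_act [Finite G] (h : Frame z Q co ac) {H : Subgroup G} (hH : ∀ c ∈ H, Commute c z)
    (ws : List (List (ℕ × ℕ))) {b : List ℕ} (hb : ∀ k ∈ b, k < 256)
    (inj : (ws.map fun w => b.map (prs w)).Nodup)
    (surj : ∀ c ∈ H, ∃ w ∈ ws, ∀ k < 256, ac c k = prs w k)
    (lift : ∀ w ∈ ws, ∃ c ∈ H, ∀ k < 256, ac c k = prs w k) :
    Nat.card H = ws.length * Nat.card ↥(H ⊓ Q) := by
  choose c hc hck using fun i : Fin ws.length => lift ws[i] (List.getElem_mem _)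
  let f : Fin ws.length × ↥(H ⊓ Q) → H := fun p => ⟨c p.1 * p.2, mul_mem (hc _) p.2.2.1⟩
  have hf : Function.Bijective f := by
    refine ⟨fun p p' e => ?_, fun g => ?_⟩
    · have e' : c p.1 * (p.2 : G) = c p'.1 * (p'.2 : G) := congrArg Subtype.val e
      have hact : ∀ (p : Fin ws.length × ↥(H ⊓ Q)), ∀ k < 256, ac (c p.1 * (p.2 : G)) k = prs ws[p.1] k :=
        fun p k hk => by
          rw [h.ac_mul (hH _ (hc _)) (hH _ p.2.2.1) hk, h.ac_Q p.2.2.2 hk, hck _ k hk]
      have e1 : p.1 = p'.1 := by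
        have hm : b.map (prs ws[p.1]) = b.map (prs ws[p'.1]) := map_eq_of_eqOn fun k hk => by
          rw [← hact p k (hb k hk), ← hact p' k (hb k hk), e']
        exact Fin.ext <| (inj.getElem_inj_iff (hi := by simp) (hj := by simp)).1 (by simpa using hm)
      rw [e1, mul_left_cancel_iff] at e'
      exact Prod.ext e1 (Subtype.ext e')
    · obtain ⟨w, hw, e⟩ := surj g g.2
      obtain ⟨i, hi, rfl⟩ := List.getElem_of_mem hw
      have hq : (c ⟨i, hi⟩)⁻¹ * (g : G) ∈ Q := by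
        refine h.faithful _ ((hH _ (hc _)).inv_left.mul_left (hH _ g.2)) fun k hk => ?_
        rw [h.ac_mul (hH _ (hc _)).inv_left (hH _ g.2) hk, e k hk, ← show ac (c ⟨i, hi⟩) k = prs ws[i] k from
          hck ⟨i, hi⟩ k hk, h.ac_inv (hH _ (hc _)) hk]
      exact ⟨(⟨i, hi⟩, ⟨_, Subgroup.mem_inf.2 ⟨H.mul_mem (H.inv_mem (hc _)) g.2, hq⟩⟩), Subtype.ext (mul_inv_cancel_left _ _)⟩
  rw [← Nat.card_eq_of_bijective f hf, Nat.card_prod, Nat.card_fin]

namespace Fx

variable {x n b : G} {β : List (ℕ × ℕ)} (f : Fx z Q co ac x n b β)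
include f

theorem card_R : Nat.card ↥(Q ⊓ Subgroup.centralizer ({b} : Set G)) = 32 := by
  rw [card_code f.fr (L := r0) (by decide) r0_lt fun q => ?_]
  · rfl
  · rw [Subgroup.mem_inf, Subgroup.mem_centralizer_singleton_iff]
    exact ⟨fun e => ⟨e.1, (f.fix q e.1).1 e.2.symm⟩, fun e => ⟨e.1, ((f.fix q e.1).2 e.2).eq.symm⟩⟩

theorem partOne_word {c : G} (hc : c ∈ partOne z Q co) [Finite G] :
    ∃ w ∈ evR, ∀ k < 256, ac c k = prs w k := by
  have hcz := (mem_partOne.1 hc).1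
  obtain ⟨w, hw, i, hi, he⟩ := f.ac_commuting hcz (f.partOne_b hc)
  refine ⟨w, hw, ext_all (f.fr.iso hcz).toLin8 (prs_lin (evR_spec w hw).1) (fun r hr => ?_) fun d hd => ?_⟩
  · rw [he r (r0_lt r hr), prs_append, f.pw_fix i r hr]
  · rw [f.partOne_fix hc d hd, (evR_spec w hw).2.1 d hd]

theorem partOne_lift [Finite G] {w : List (ℕ × ℕ)} (hw : w ∈ evR) :
    ∃ c ∈ partOne z Q co, ∀ k < 256, ac c k = prs w k := by
  obtain ⟨hok, hd, hr⟩ := evR_spec w hw
  obtain ⟨c, hc, hcb, hck⟩ := f.exists_comm_lift hok fun k hk => by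
    rcases List.mem_append.1 hk with hk | hk
    · rw [(evD_spec β f.mem).2.1 k (bR_mem k hk), (evD_spec β f.mem).2.1 _ (hr k (bR_mem k hk))]
    · rw [hd k (bD_mem k hk), hd _ ((evD_spec β f.mem).2.2 k (bD_mem k hk))]
  exact ⟨c, f.mem_one_of_fix hc hcb fun d hd' => by rw [hck d (d0_lt d hd'), hd d hd'], hck⟩

theorem card_one [Finite G] : Nat.card (partOne z Q co) = 1920 := by
  rw [card_act f.fr (fun c hc => (mem_partOne.1 hc).1) evR (b := bR) (fun k hk => r0_lt k (bR_mem k hk))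
    evR_inj (fun c hc => f.partOne_word hc) (fun w hw => f.partOne_lift hw), evR_len,
    card_code f.fr (L := r0) (by decide) r0_lt fun q => ?_]
  · rfl
  · rw [Subgroup.mem_inf]
    exact ⟨fun e => ⟨e.2, ((f.one_inter e.2).1 e.1).2⟩, fun e => ⟨(f.one_inter e.1).2 e, e.1⟩⟩

theorem partTwo_word {c : G} (hc : c ∈ partTwo z Q co) : ∃ w ∈ evD, ∀ k < 256, ac c k = prs w k := by
  have hcz := (mem_partTwo.1 hc).1
  have hfix := f.partTwo_fix hc
  obtain ⟨-, wR, hwR, wD, hwD, e | e⟩ := ac_split f.fr hcz fun r hr => by rw [hfix r hr]; exact hr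
  · refine ⟨wD, hwD, ext_all (f.fr.iso hcz).toLin8 (prs_lin (evD_spec wD hwD).1) (fun r hr => ?_) fun d hd => ?_⟩
    · rw [hfix r hr, (evD_spec wD hwD).2.1 r hr]
    · rw [e d (d0_lt d hd), prs_append, (evR_spec wR hwR).2.1 _ ((evD_spec wD hwD).2.2 d hd)]
  · exfalso
    obtain ⟨r, hr, hne⟩ := refl3_ne wR hwR
    have hr' := bR_mem r hr
    refine hne ?_
    have h1 := (e r (r0_lt r hr')).symm.trans (hfix r hr')
    conv_rhs => rw [← h1]
    show refl 3 (prs wR r) = refl 3 (refl 28 (prs (wR ++ wD) r))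
    rw [prs_append, (evD_spec wD hwD).2.1 r hr', refl28_spec.2.2.1 _ ((evR_spec wR hwR).2.2 r hr')]

theorem partTwo_lift {w : List (ℕ × ℕ)} (hw : w ∈ evD) :
    ∃ c ∈ partTwo z Q co, ∀ k < 256, ac c k = prs w k := by
  classical
  obtain ⟨hok, hr, -⟩ := evD_spec w hw
  obtain ⟨c, hc, hck⟩ := f.fr.exists_prs hok
  choose q hq hqk using fun k : {k // k ∈ r0} => f.exists_inR k.2
  let ε : {k // k ∈ r0} → Bool := fun k => decide (c * q k * c⁻¹ ≠ q k)
  obtain ⟨j, hj, hjb⟩ := functional_R (ε ⟨1, by decide⟩) (ε ⟨2, by decide⟩) (ε ⟨12, by decide⟩) (ε ⟨52, by decide⟩)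
  obtain ⟨e, he, hek⟩ := f.exists_inR hj
  have hez := f.fr.es.comm e he.1
  have hcz : Commute (e * c) z := hez.mul_left hc
  refine ⟨e * c, mem_partTwo.2 ⟨hcz, fun p hp => ?_⟩, fun k hk => ?_⟩
  · have hS : p ∈ Subgroup.centralizer ({e * c} : Set G) := by
      refine mem_of_codes f.fr (Subgroup.mem_centralizer_singleton_iff.2 hcz.eq.symm) (l := bR)
        (fun a ha => ⟨q ⟨a, bR_mem a ha⟩, (hq _).1, hqk _, ?_⟩) p hp.1 (r0_span _ hp.2)
      refine Subgroup.mem_centralizer_singleton_iff.2 (Eq.symm (mul_inv_eq_iff_eq_mul.1 ?_))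
      set k : {k // k ∈ r0} := ⟨a, bR_mem a ha⟩ with hk
      have hb : bn j a = ε k := by
        have := hjb
        simp only [bR, List.map_cons, List.map_nil, List.cons.injEq, and_true] at this
        obtain ⟨h1, h2, h3, h4⟩ := this
        simp only [bR, List.mem_cons, List.not_mem_nil, or_false] at ha
        rcases ha with rfl | rfl | rfl | rfl <;> assumption
      have h1 : c * q k * c⁻¹ = q k * pw z (ε k) := by
        have hnorm := f.fr.norm c hc _ (hq k).1
        have hco : co (q k) = co (c * q k * c⁻¹) := by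
          rw [f.fr.conj c hc _ (hq k).1, hqk, hck _ (r0_lt _ k.2), hr _ k.2]
        rcases f.fr.co_eq (hq k).1 hnorm hco with e' | e'
        · simp [ε, pw, e']
        · simp [ε, pw, e', f.fr.es.ne]
      calc e * c * q k * (e * c)⁻¹ = e * (c * q k * c⁻¹) * e⁻¹ := by group
        _ = (e * q k * e⁻¹) * pw z (ε k) := by
          rw [h1]
          cases ε k
          · simp [pw]
          · simp only [pw, cond_true]
            rw [mul_assoc e, mul_assoc (q k), ← hez.inv_left.eq]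
            group
        _ = q k := by
          rw [f.fr.comm_Q he.1 (hq k).1, hek, hqk, hb, mul_assoc, pw_mul f.fr.es.sq, Bool.xor_self]
          exact mul_one _
    exact Eq.symm (Subgroup.mem_centralizer_singleton_iff.1 hS)
  · rw [f.fr.ac_mul hez hc hk, hck k hk, f.fr.ac_Q he.1 ((prs_lin hok).lt k hk)]

theorem card_two [Finite G] : Nat.card (partTwo z Q co) = 1920 := by
  rw [card_act f.fr (fun c hc => (mem_partTwo.1 hc).1) evD (b := bD) (fun k hk => d0_lt k (bD_mem k hk))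
    evD_inj (fun c hc => f.partTwo_word hc) (fun w hw => f.partTwo_lift hw), evD_len,
    card_code f.fr (L := d0) (by decide) d0_lt fun q => ?_]
  · rfl
  · rw [Subgroup.mem_inf]
    exact ⟨fun e => ⟨e.2, ((f.two_inter e.2).1 e.1).2⟩, fun e => ⟨(f.two_inter e.1).2 e, e.1⟩⟩

/-- A subgroup containing `R` and the lifts of the pairs contains `M₁`. -/
theorem partOne_le [Finite G] {S : Subgroup G} (hR : ∀ q, InR Q co q → q ∈ S)
    (h3 : ∀ c ∈ partOne z Q co, c ^ 3 ∈ Q → c ∈ S) : partOne z Q co ≤ S := by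
  intro m hm
  obtain ⟨wR, hwR, he⟩ := f.partOne_word hm
  have key : ∀ w : List (ℕ × ℕ), (∀ p ∈ w, p ∈ wR) → okWord w = true →
      ∃ c ∈ partOne z Q co, (∀ k < 256, ac c k = prs w k) ∧ c ∈ S := by
    intro w
    induction w with
    | nil => exact fun _ _ =>
        ⟨1, one_mem _, fun k hk => f.fr.ac_Q (one_mem Q) hk, one_mem _⟩
    | cons p w ih =>
      intro hsub hok
      obtain ⟨c, hc, hck, hc3⟩ := f.exists_pair_lift hwR (hsub p List.mem_cons_self)
      obtain ⟨e, he', hek, hem⟩ := ih (fun q hq => hsub q (List.mem_cons_of_mem _ hq)) (okWord_cons hok).2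
      refine ⟨c * e, mul_mem hc he', fun k hk => ?_, mul_mem (h3 c hc hc3) hem⟩
      rw [f.fr.ac_mul (mem_partOne.1 hc).1 (mem_partOne.1 he').1 hk, hek k hk,
        hck _ ((prs_lin (okWord_cons hok).2).lt k hk)]
      rfl
  obtain ⟨c, hc, hck, hcS⟩ := key wR (fun _ h => h) (evR_spec wR hwR).1
  have hmc : m * c⁻¹ ∈ partOne z Q co := mul_mem hm (inv_mem hc)
  have hQ : m * c⁻¹ ∈ Q := f.fr.faithful _ (mem_partOne.1 hmc).1 fun k hk => by
    have hk' := f.fr.ac_lt (mem_partOne.1 hc).1.inv_left hk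
    rw [f.fr.ac_mul (mem_partOne.1 hm).1 (mem_partOne.1 hc).1.inv_left hk, he _ hk', ← hck _ hk',
      f.fr.ac_inv' (mem_partOne.1 hc).1 hk]
  have := mul_mem (hR _ ((f.one_inter hQ).1 hmc)) hcS
  rwa [inv_mul_cancel_right] at this

/-- The centralisers of `z` and `b` meet in `M₁ × ⟨b⟩`. -/
theorem exists_decomp [Finite G] {c : G} (hc : Commute c z) (hcb : Commute c b) :
    ∃ m ∈ partOne z Q co, ∃ i : ℕ, c = m * b ^ i := by
  obtain ⟨w, hw, i, hi, he⟩ := f.ac_commuting hc hcb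
  have hbi := (f.bz.pow_left i).inv_left
  refine ⟨c * (b ^ i)⁻¹, f.mem_one_of_fix (hc.mul_left hbi)
    (hcb.mul_left ((Commute.refl b).pow_left i).inv_left) fun d hd => ?_, i, by group⟩
  have hlt := d0_lt d hd
  have hlt' := f.fr.ac_lt hbi hlt
  have hfix : ∀ r ∈ r0, ac (b ^ i)⁻¹ r = r := fun r hr => by
    conv_lhs => rw [← f.pw_fix i r hr, ← (f.act_pow i).2 r (r0_lt r hr)]
    exact f.fr.ac_inv (f.bz.pow_left i) (r0_lt r hr)
  have hd' : ac (b ^ i)⁻¹ d ∈ d0 := (ac_split f.fr hbi fun r hr => by rw [hfix r hr]; exact hr).1 d hd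
  rw [f.fr.ac_mul hc hbi hlt, he _ hlt', prs_append, (evR_spec w hw).2.1 _ (f.pw_d0 i _ hd'),
    ← (f.act_pow i).2 _ hlt', f.fr.ac_inv' (f.bz.pow_left i) hlt]

theorem one_zpowers {g : G} (hg : g ∈ Subgroup.zpowers b) (hm : g ∈ partOne z Q co) : g = 1 := by
  obtain ⟨i, hi, rfl⟩ := f.zpowers_cases hg
  rw [f.pow_eq hi (show 0 < 5 by norm_num) fun d hd => ?_, pow_zero]
  rw [f.partOne_fix hm d (bD_mem d hd), pow_zero, f.fr.ac_Q (one_mem Q) (d0_lt d (bD_mem d hd))]

end Fx

end Cfsg.Agent.Lib.Co1Type32
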