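import Cfsg.Agent.Lib.Co1Type32.Count

/-!
# Conway type: elements of `C(b)` fusing `z` to `x`, and a second class of involutions in `C(z) ∩ C(b)`

Owner: helper32.
-/

set_option autoImplicit false
set_option maxRecDepth 100000
set_option linter.style.haveILetI false

namespace Cfsg.Agent.Lib.Co1Type32

open Cfsg.Agent.Lib.Co1Type31

variable {G : Type*} [Group G] [Finite G] {z : G} {Q : Subgroup G} {co : G → ℕ} {ac : G → ℕ → ℕ}
  {x n b : G} {β : List (ℕ × ℕ)}

namespace Fx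

variable (f : Fx z Q co ac x n b β)
include f

/-- An element of `C(z)` squaring `b`. -/
theorem exists_double : ∃ c, Commute c z ∧ c * b * c⁻¹ = b ^ 2 := by
  obtain ⟨w, hw, hwβ⟩ := five_dbl β f.mem f.five
  have hok := (dbl_ok w hw).1
  obtain ⟨c, hc, hck⟩ := f.fr.exists_prs hok
  have lw := prs_lin hok
  have lb := prs_lin f.okβ
  have hlt : ∀ k ∈ bR ++ bD, k < 256 := by decide
  have hall : ∀ k < 256, prs w (prs β k) = prs β (prs β (prs w k)) := fun k hk =>
    (ext_span (lw.comp lb) (lb.comp (lb.comp lw)) hlt hwβ k (all_span k hk)).2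
  obtain ⟨q, hq, he⟩ := f.exists_norm hc (i := 2) fun k hk => by
    have hk' := f.fr.ac_lt hc.inv_left hk
    rw [f.fr.ac_conj f.bz hc hk, f.act _ hk', hck _ (lb.lt _ hk'), hall _ hk', ← hck _ hk',
      f.fr.ac_inv' hc hk, pow_two, f.fr.ac_mul f.bz f.bz hk, f.act k hk, f.act _ (lb.lt k hk)]
  exact ⟨q * c, (f.fr.es.comm q hq).mul_left hc, he⟩

/-- An element centralising `b` which takes `z` to `x`. -/
theorem exists_fuse : ∃ g, Commute g b ∧ g * z * g⁻¹ = x := by
  obtain ⟨c, hc, hcb⟩ := f.exists_double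
  obtain ⟨j, hj, hnb⟩ := f.zpowers_cases f.nb
  have hpow : ∀ m : ℕ, c ^ m * b * (c ^ m)⁻¹ = b ^ (2 ^ m) := by
    intro m
    induction m with
    | zero => simp
    | succ m ih =>
      rw [show c ^ (m + 1) * b * (c ^ (m + 1))⁻¹ = c * (c ^ m * b * (c ^ m)⁻¹) * c⁻¹ by
        rw [pow_succ']; group, ih, ← conj_pow, hcb, ← pow_mul, pow_succ']
  have hj0 : j ≠ 0 := by
    rintro rfl
    rw [pow_zero, conj_eq_one_iff] at hnb
    have := f.ord
    rw [hnb, orderOf_one] at this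
    omega
  obtain ⟨m, hm⟩ : ∃ m, j * 2 ^ m % 5 = 1 := by
    interval_cases j
    · exact absurd rfl hj0
    · exact ⟨0, rfl⟩
    · exact ⟨3, rfl⟩
    · exact ⟨1, rfl⟩
    · exact ⟨2, rfl⟩
  refine ⟨n * c ^ m, mul_inv_eq_iff_eq_mul.1 ?_, ?_⟩
  · calc n * c ^ m * b * (n * c ^ m)⁻¹ = n * (c ^ m * b * (c ^ m)⁻¹) * n⁻¹ := by group
      _ = b ^ (j * 2 ^ m) := by rw [hpow, ← conj_pow, hnb, pow_mul]
      _ = b := by rw [f.pow_mod, hm, pow_one]
  · calc n * c ^ m * z * (n * c ^ m)⁻¹ = n * (c ^ m * z * (c ^ m)⁻¹) * n⁻¹ := by group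
      _ = x := by rw [(hc.pow_left m).mul_inv_cancel, f.duo.nz]

omit [Finite G] in
theorem b_ee (i j : Bool) : Commute b (ee z x i j) := f.duo.ee_comm f.bx f.bz i j

omit [Finite G] in
/-- A lift of the transvection with parameter `12` centralises `b`. -/
theorem commute_twelve {u : G} (hu : InB Q n z u) (hua : Act ac u 12) : Commute b u := by
  have h12 : (12 : ℕ) ∈ w6 := by decide +kernel
  have hu' : InB Q n z (b * u * b⁻¹) :=
    ⟨f.duo.P_conj f.bx hu.1, (f.bz.mul_left hu.2).mul_left f.bz.inv_left⟩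
  have hall : ∀ k < 256, prs β (eich 12 k) = eich 12 (prs β k) := fun k hk =>
    (ext_span ((prs_lin f.okβ).comp (eich_lin (by norm_num))) ((eich_lin (by norm_num)).comp (prs_lin f.okβ))
      (by decide) (five_eich β f.mem) k (all_span k hk)).2
  have hua' : Act ac (b * u * b⁻¹) 12 := fun k hk => by
    have hk' := f.fr.ac_lt f.bz.inv_left hk
    rw [f.fr.ac_conj hu.2 f.bz hk, hua _ hk', f.act _ (eich_lt h12 hk'), hall _ hk', ← f.act _ hk',
      f.fr.ac_inv' f.bz hk]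
  obtain ⟨i, j, e⟩ := f.duo.act_eq h12 hu hu' hua hua'
  have hbe := f.b_ee i j
  have hk : ∀ k : ℕ, b ^ k * u * (b ^ k)⁻¹ = u * ee z x i j ^ k := by
    intro k
    induction k with
    | zero => simp
    | succ k ih =>
      rw [show b ^ (k + 1) * u * (b ^ (k + 1))⁻¹ = b * (b ^ k * u * (b ^ k)⁻¹) * b⁻¹ by rw [pow_succ']; group,
        ih, show b * (u * ee z x i j ^ k) * b⁻¹ = (b * u * b⁻¹) * (b * ee z x i j ^ k * b⁻¹) by group, e,
        (hbe.pow_right k).mul_inv_cancel, mul_assoc, ← pow_succ']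
  have h5 := hk 5
  rw [f.b5, one_mul, inv_one, mul_one, show ee z x i j ^ 5 = ee z x i j by
    rw [pow_succ, show (4 : ℕ) = 2 * 2 from rfl, pow_mul, pow_two (ee z x i j), f.duo.ee_sq, one_pow, one_mul],
    left_eq_mul] at h5
  rw [h5, mul_one] at e
  exact mul_inv_eq_iff_eq_mul.1 e

/-- A second class of involutions. -/
theorem exists_second : ∃ t, orderOf t = 2 ∧ Commute t z ∧ Commute t b ∧ ¬ IsConj z t := by
  have d := f.duo
  have h12 : (12 : ℕ) ∈ w6 := by decide +kernel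
  obtain ⟨u, hu, hua⟩ := d.lift 12 h12
  obtain ⟨r, hr, hrk⟩ := f.exists_inR (k := 52) (by decide)
  set t := u * r with ht
  have hF : Form Q co ac n z t 12 52 :=
    ⟨u, r, hu, hua, ⟨hr.1, by rw [hrk]; rfl⟩, by rw [hrk]; rfl, rfl⟩
  have ht2 : t * t = 1 := by rw [d.form_sq h12 hF]; exact d.ee_zero
  have hto : orderOf t = 2 := orderOf_eq_prime (by rw [pow_two, ht2]) fun e =>
    (show eich 12 2 ≠ 2 by decide +kernel) (by
      rw [← (d.form_commute hF).2 2 (by norm_num), e, d.fr.ac_Q (one_mem Q) (by norm_num)])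
  refine ⟨t, hto, (d.form_commute hF).1,
    (f.commute_twelve hu hua).symm.mul_left (f.inR_iff.1 hr).2.symm, fun h => ?_⟩
  obtain ⟨T, -, -, -, hTlt, -, hTtop⟩ := d.sylC_top hF ht2
  obtain ⟨k, hk⟩ := isConj_iff.1 h
  obtain ⟨S, hS, hSa, hcard, -⟩ := Duo.map_sub d.fr.sylU_isPGroup (fun s hs => hs.1) hk
  have := (hTtop S hS hSa).trans_lt hTlt
  rw [hcard, d.fr.sylU_card] at this
  exact lt_irrefl _ this

end Fx

end Cfsg.Agent.Lib.Co1Type32
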