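import Cfsg.Agent.Lib.Co1Type32.Quot
import Cfsg.Agent.Lib.Components.Basic
import Cfsg.Agent.Lib.Schur.Universe
import Cfsg.Agent.S2040

/-!
# Conway type: the derived group of `C(b)` is the layer and a Hall-Janko group

Owner: helper32.
-/

set_option autoImplicit false
set_option maxRecDepth 100000
set_option linter.style.haveILetI false

namespace Cfsg.Agent.Lib.Co1Type32

open Cfsg.Agent.Lib.Co1Type31

theorem perfect_J2 : commutator Cfsg.Spor.J2 = ⊤ ∧ ¬ IsMulCommutative Cfsg.Spor.J2 := by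
  haveI := SporJ2.isSimple_J2
  have hnc : ¬ IsMulCommutative Cfsg.Spor.J2 := fun h => by
    letI : CommGroup Cfsg.Spor.J2 := { (inferInstance : Group Cfsg.Spor.J2) with mul_comm := h.is_comm.comm }
    haveI : IsSimpleGroup Cfsg.Spor.J2 := SporJ2.isSimple_J2
    have := IsSimpleGroup.prime_card (α := Cfsg.Spor.J2)
    rw [SporJ2.card_J2] at this
    exact absurd this (by norm_num)
  exact ⟨(IsSimpleGroup.eq_bot_or_eq_top_of_normal _ inferInstance).resolve_left
    fun e => hnc ((commutator_eq_bot_iff _).1 e), hnc⟩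

/-- The image of the derived group of `C(b)`. -/
abbrev EB {G : Type*} [Group G] (b : G) : Subgroup G := ⁅CB b, CB b⁆

variable {G : Type*} [Group G] [Finite G] {z : G} {Q : Subgroup G} {co : G → ℕ} {ac : G → ℕ → ℕ}
  {x n b : G} {β : List (ℕ × ℕ)}

namespace Fx

variable (f : Fx z Q co ac x n b β)
include f

omit [Finite G] in
theorem card_KB : Nat.card (KB b) = 5 := by
  rw [Nat.card_congr (Subgroup.subgroupOfEquivOfLe (Subgroup.zpowers_le.2 (mem_CB.2 (Commute.refl b)))).toEquiv,
    Nat.card_zpowers, f.ord]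

/-- The derived group meets `⟨b⟩` trivially. -/
theorem comm_inter : commutator (CB b) ⊓ KB b = ⊥ := by
  haveI : Fact (Nat.Prime 5) := ⟨by norm_num⟩
  by_contra hne
  have hd := Subgroup.card_dvd_of_le (inf_le_right : commutator (CB b) ⊓ KB b ≤ KB b)
  rw [f.card_KB] at hd
  rcases (Nat.dvd_prime (by norm_num)).1 hd with h1 | h5
  · exact hne (Subgroup.card_eq_one.1 h1)
  · have he : commutator (CB b) ⊓ KB b = KB b :=
      Subgroup.eq_of_le_of_card_ge inf_le_right (by rw [f.card_KB, h5])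
    have hK : KB b ≤ commutator (CB b) := he ▸ inf_le_left
    obtain ⟨e⟩ := f.quotJ2
    obtain ⟨-, hq⟩ := Schur.Universe.hasSchurMultiplier_lift e.symm S2040.result
    obtain ⟨π, hπ⟩ := hq (CB b) (QuotientGroup.mk' (KB b))
      ⟨QuotientGroup.mk'_surjective _, by rw [QuotientGroup.ker_mk']; exact KB_le_center b,
        by rw [QuotientGroup.ker_mk']; exact hK⟩
    have := Nat.card_le_card_of_surjective π hπ
    rw [QuotientGroup.ker_mk', f.card_KB, Nat.card_congr Multiplicative.toAdd, Nat.card_zmod] at this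
    omega

theorem surj_mk : (commutator (CB b)).map (QuotientGroup.mk' (KB b)) = ⊤ := by
  obtain ⟨e⟩ := f.quotJ2
  rw [commutator_def, Subgroup.map_commutator, Subgroup.map_top_of_surjective _ (QuotientGroup.mk'_surjective _),
    ← commutator_def]
  have h : (commutator Cfsg.Spor.J2).map e.symm.toMonoidHom = ⊤ := by
    rw [perfect_J2.1, Subgroup.map_top_of_surjective _ e.symm.surjective]
  rwa [commutator_def, Subgroup.map_commutator, Subgroup.map_top_of_surjective _ e.symm.surjective,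
    ← commutator_def] at h

/-- The derived group is the Hall-Janko group. -/
theorem commJ2 : Cfsg.Spor.IsoJ2 (commutator (CB b)) := by
  obtain ⟨e⟩ := f.quotJ2
  refine ⟨(MulEquiv.ofBijective ((QuotientGroup.mk' (KB b)).comp (commutator (CB b)).subtype) ⟨?_, ?_⟩).trans e⟩
  · rw [← MonoidHom.ker_eq_bot_iff, Subgroup.eq_bot_iff_forall]
    intro c hc
    have h : (c : CB b) ∈ commutator (CB b) ⊓ KB b :=
      ⟨c.2, (QuotientGroup.eq_one_iff _).1 (MonoidHom.mem_ker.1 hc)⟩
    rw [f.comm_inter, Subgroup.mem_bot] at h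
    exact Subtype.ext h
  · intro q
    obtain ⟨c, hc, rfl⟩ := (show q ∈ (commutator (CB b)).map (QuotientGroup.mk' (KB b)) by
      rw [f.surj_mk]; exact Subgroup.mem_top q)
    exact ⟨⟨c, hc⟩, rfl⟩

theorem layer_eq : Cfsg.layer (CB b) = commutator (CB b) := by
  obtain ⟨e⟩ := f.commJ2
  haveI := SporJ2.isSimple_J2
  haveI : IsSimpleGroup (commutator (CB b)) := e.isSimpleGroup_congr.2 inferInstance
  refine le_antisymm (sSup_le fun K hK => ?_) (le_sSup ⟨Subgroup.Normal.isSubnormal inferInstance,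
    Components.Quasisimple.of_isSimpleGroup fun h => perfect_J2.2 ?_⟩)
  · have h := hK.2.1
    have h' : commutator K = ⊤ := Group.IsPerfect.commutator_eq_top
    calc K = (commutator K).map K.subtype := by rw [h', ← MonoidHom.range_eq_map, Subgroup.range_subtype]
      _ = ⁅K, K⁆ := K.map_subtype_commutator
      _ ≤ commutator (CB b) := Subgroup.commutator_mono le_top le_top
  · exact ⟨⟨fun a c => e.symm.injective (by rw [map_mul, map_mul]; exact h.is_comm.comm _ _)⟩⟩

omit f [Finite G] in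
theorem EB_le : EB b ≤ CB b := Subgroup.commutator_le_self _

omit f [Finite G] in
theorem EB_map : (commutator (CB b)).map (CB b).subtype = EB b := (CB b).map_subtype_commutator

theorem card_E : Nat.card (EB b) = 604800 := by
  obtain ⟨e⟩ := f.commJ2
  rw [← EB_map, Subgroup.card_map_of_injective (CB b).subtype_injective, Nat.card_congr e.toEquiv,
    SporJ2.card_J2]

theorem E_zpowers {g : G} (hg : g ∈ EB b) (hb : g ∈ Subgroup.zpowers b) : g = 1 := by
  rw [← EB_map] at hg
  obtain ⟨c, hc, rfl⟩ := hg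
  have h : c ∈ commutator (CB b) ⊓ KB b := ⟨hc, hb⟩
  rw [f.comm_inter, Subgroup.mem_bot] at h
  rw [h, map_one]

/-- `C(b) = E × ⟨b⟩`. -/
theorem exists_E {c : G} (hc : Commute c b) : ∃ e ∈ EB b, ∃ i : ℕ, c = e * b ^ i := by
  obtain ⟨e, he, h⟩ := (show QuotientGroup.mk' (KB b) ⟨c, mem_CB.2 hc⟩ ∈
    (commutator (CB b)).map (QuotientGroup.mk' (KB b)) by rw [f.surj_mk]; exact Subgroup.mem_top _)
  obtain ⟨i, -, hi⟩ := f.zpowers_cases (f.mk_eq_iff.1 h)
  exact ⟨e, EB_map (b := b) ▸ ⟨e, he, rfl⟩, i, by rw [← hi, mul_inv_cancel_left]⟩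

theorem mem_E_of_pow {c : G} (hc : Commute c b) {m : ℕ} (hm : c ^ m = 1) (h5 : ¬ 5 ∣ m) : c ∈ EB b := by
  obtain ⟨e, he, i, rfl⟩ := f.exists_E hc
  have heb := mem_CB.1 (EB_le he)
  rw [(heb.pow_right i).mul_pow, ← pow_mul] at hm
  have h1 : b ^ (i * m) = 1 := f.E_zpowers
    (by rw [eq_inv_of_mul_eq_one_right hm]; exact inv_mem (pow_mem he m)) (Subgroup.npow_mem_zpowers b _)
  have hd : 5 ∣ i := (Nat.Coprime.dvd_mul_right ((Nat.Prime.coprime_iff_not_dvd (by norm_num)).2 h5)).1
    (f.ord ▸ orderOf_dvd_of_pow_eq_one h1)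
  obtain ⟨k, rfl⟩ := hd
  rwa [pow_mul, f.b5, one_pow, mul_one]

theorem inR_E {q : G} (hq : InR Q co q) : q ∈ EB b :=
  f.mem_E_of_pow (f.inR_iff.1 hq).2.symm (m := 512)
    (by have := congrArg Subtype.val (pow_card_eq_one' (x := (⟨q, hq.1⟩ : Q)))
        rwa [f.fr.card] at this) (by norm_num)

theorem partOne_E : partOne z Q co ≤ EB b :=
  f.partOne_le (fun _ hq => f.inR_E hq) fun c hc h3 =>
    f.mem_E_of_pow (f.partOne_b hc) (m := 3 * 512)
      (by have := congrArg Subtype.val (pow_card_eq_one' (x := (⟨c ^ 3, h3⟩ : Q)))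
          rw [f.fr.card] at this
          rw [pow_mul]; exact this) (by norm_num)

theorem mem_E_inter {c : G} (hc : c ∈ EB b) (hz : Commute c z) : c ∈ partOne z Q co := by
  obtain ⟨m, hm, i, rfl⟩ := f.exists_decomp hz (mem_CB.1 (EB_le hc))
  have h := f.E_zpowers (g := b ^ i) ?_ (Subgroup.npow_mem_zpowers b i)
  · rwa [h, mul_one]
  · simpa using mul_mem (inv_mem (f.partOne_E hm)) hc

omit f in
/-- An element normalising `⟨b⟩` normalises the derived group. -/
theorem E_conj {g : G} (hg : g * b * g⁻¹ ∈ Subgroup.zpowers b) :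
    (EB b).map (MulAut.conj g).toMonoidHom = EB b := by
  have hinj : Function.Injective (MulAut.conj g).toMonoidHom := (MulAut.conj g).injective
  have hB : (Subgroup.zpowers b).map (MulAut.conj g).toMonoidHom = Subgroup.zpowers b := by
    refine Subgroup.eq_of_le_of_card_ge ?_ (by rw [Subgroup.card_map_of_injective hinj])
    rw [MonoidHom.map_zpowers]
    exact Subgroup.zpowers_le.2 hg
  have hC : (CB b).map (MulAut.conj g).toMonoidHom = CB b := by
    refine Subgroup.eq_of_le_of_card_ge ?_ (by rw [Subgroup.card_map_of_injective hinj])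
    rintro _ ⟨c, hc, rfl⟩
    obtain ⟨j, hj, e⟩ := (show b ∈ (Subgroup.zpowers b).map (MulAut.conj g).toMonoidHom by
      rw [hB]; exact Subgroup.mem_zpowers b)
    obtain ⟨k, rfl⟩ := Subgroup.mem_zpowers_iff.1 hj
    refine mem_CB.2 ?_
    have := ((mem_CB.1 hc).zpow_right k).map (MulAut.conj g).toMonoidHom
    rwa [e] at this
  rw [EB, Subgroup.map_commutator, hC]

end Fx

end Cfsg.Agent.Lib.Co1Type32
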