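import Cfsg.Agent.Lib.Co1Type32.Coded
import Cfsg.Agent.Lib.Co1Type31.Main

/-!
# Conway type: normal form of a subgroup of order five fixing an elliptic space of dimension four

Owner: helper32.
-/

set_option autoImplicit false
set_option maxRecDepth 100000
set_option linter.style.haveILetI false

namespace Cfsg.Agent.Lib.Co1Type32

open Cfsg.Agent.Lib.Co1Type31

theorem mask_eq : ∀ k < 256, k &&& 252 =
    k ^^^ (bif bn 1 k then 2 else 0) ^^^ (bif bn 2 k then 1 else 0) := by decide +kernel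

theorem mask_facts : ∀ k < 256, (k &&& 252 = 0 → k ∈ [0, 1, 2, 3]) ∧ bn 1 (k &&& 252) = false ∧
    bn 12 (k &&& 252) = bn 12 k ∧ k &&& 252 ∈ w6 ∧ k &&& 252 ≠ 1 := by decide +kernel

theorem pr_two : ∀ p ∈ pairs6, pr p 2 = 2 := by decide +kernel

theorem fifty : ∀ k ∈ r0, k ∈ w6 → bn 12 k = true → ∀ r ∈ r0, r ∈ spanL [1, 2, 12, k] := by
  decide +kernel

theorem pow12 : ∀ w ∈ evR, prs w 1 = 1 → ∀ r ∈ bR, prs (pwW w 12) r = r := by decide +kernel

variable {G : Type*} [Group G]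

/-- New coordinates from an element of `C(z)`. -/
theorem frame_shift {z : G} {Q : Subgroup G} {co : G → ℕ} {ac : G → ℕ → ℕ} (h : Frame z Q co ac) {c : G}
    (hc : Commute c z) :
    Frame z Q (fun q => ac c (co q)) fun d k => ac (c * d * c⁻¹) k := by
  have hcd : ∀ {d}, Commute d z → Commute (c * d * c⁻¹) z := fun hd => (hc.mul_left hd).mul_left hc.inv_left
  have hdc : ∀ {d}, Commute d z → Commute (c⁻¹ * d * c) z := fun hd => (hc.inv_left.mul_left hd).mul_left hc
  refine ⟨h.ord, h.es, h.cent, h.norm, h.card, h.cardC, fun q hq => h.ac_lt hc (h.co_lt q hq), ?_, ?_, ?_,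
    ?_, ?_, ?_, ?_, ?_⟩
  · intro q hq r hr
    rw [h.co_mul q hq r hr, h.ac_xor hc (h.co_lt q hq) (h.co_lt r hr)]
  · intro q hq e
    refine h.co_zero q hq ?_
    have e' := congrArg (ac c⁻¹) e
    rwa [h.ac_inv hc (h.co_lt q hq), ((h.iso hc.inv_left).toLin8).zero] at e'
  · intro k hk
    obtain ⟨q, hq, e⟩ := h.co_surj _ (h.ac_lt hc.inv_left hk)
    exact ⟨q, hq, by show ac c (co q) = k; rw [e, h.ac_inv' hc hk]⟩
  · intro q hq
    rw [h.ac_qn hc (h.co_lt q hq)]
    exact h.sq q hq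
  · intro d hd q hq
    rw [h.conj d hd q hq, h.ac_conj hd hc (h.ac_lt hc (h.co_lt q hq)), h.ac_inv hc (h.co_lt q hq)]
  · intro d hd hk
    have := h.norm c⁻¹ hc.inv_left _ (h.faithful _ (hcd hd) hk)
    simpa [mul_assoc] using this
  · intro v hv w hw qv qw
    obtain ⟨e, he, hek⟩ := h.exists_pair v hv w hw qv qw
    refine ⟨c⁻¹ * e * c, hdc he, fun k hk => ?_⟩
    rw [show c * (c⁻¹ * e * c) * c⁻¹ = e by group]
    exact hek k hk
  · exact fun d hd v hv qv => h.not_refl _ (hcd hd) v hv qv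

/-- An elliptic space of dimension four. -/
structure Mini (S : Finset ℕ) : Prop where
  lt : ∀ s ∈ S, s < 256
  xor : ∀ s ∈ S, ∀ t ∈ S, s ^^^ t ∈ S
  card : S.card = 16
  nondeg : ∀ s ∈ S, s ≠ 0 → ∃ t ∈ S, bn s t = true
  line : ∀ s ∈ S, ∀ t ∈ S, qn s = false → qn t = false → bn s t = false → s ≠ 0 → t ≠ 0 → s = t

theorem Mini.zero {S : Finset ℕ} (hS : Mini S) : 0 ∈ S := by
  obtain ⟨s, hs⟩ : S.Nonempty := Finset.card_pos.1 (by rw [hS.card]; norm_num)
  simpa using hS.xor s hs s hs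

theorem Mini.exists_singular {S : Finset ℕ} (hS : Mini S) : ∃ s ∈ S, s ≠ 0 ∧ qn s = false := by
  classical
  obtain ⟨s, hs, hs0⟩ : ∃ s ∈ S, s ≠ 0 := Finset.exists_mem_ne (by rw [hS.card]; norm_num) 0
  cases hq : qn s with
  | false => exact ⟨s, hs, hs0, hq⟩
  | true =>
    obtain ⟨u, hu, hsu⟩ := hS.nondeg s hs hs0
    set P := S.filter fun t => bn s t = false
    have hle : (S.filter fun t => ¬ bn s t = false).card ≤ P.card := by
      refine Finset.card_le_card_of_injOn (u ^^^ ·) (fun t ht => ?_) fun a _ b _ e => ?_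
      · simp only [Finset.mem_coe, Finset.mem_filter] at ht
        simp only [Finset.mem_coe, P, Finset.mem_filter]
        refine ⟨hS.xor u hu t ht.1, ?_⟩
        rw [bn_add (hS.lt s hs) (hS.lt u hu) (hS.lt t ht.1), hsu, Bool.eq_true_of_not_eq_false ht.2]
        rfl
      · exact Nat.xor_right_injective e
    have hsum : P.card + (S.filter fun t => ¬ bn s t = false).card = S.card :=
      Finset.card_filter_add_card_filter_not _
    obtain ⟨t, htP, ht⟩ : ∃ t ∈ P, t ∉ ({0, s} : Finset ℕ) := by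
      refine Finset.exists_mem_notMem_of_card_lt_card ?_
      have := Finset.card_le_two (a := 0) (b := s)
      have := hS.card
      omega
    simp only [P, Finset.mem_filter] at htP
    simp only [Finset.mem_insert, Finset.mem_singleton, not_or] at ht
    cases hqt : qn t with
    | false => exact ⟨t, htP.1, ht.1, hqt⟩
    | true =>
      refine ⟨s ^^^ t, hS.xor s hs t htP.1, fun e => ht.2 (Nat.eq_of_xor_eq_zero e).symm, ?_⟩
      rw [qn_add, hq, hqt, htP.2]
      rfl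

theorem Mini.image {z : G} {Q : Subgroup G} {co : G → ℕ} {ac : G → ℕ → ℕ} (h : Frame z Q co ac) {c : G}
    (hc : Commute c z) {S : Finset ℕ} (hS : Mini S) : Mini (S.image (ac c)) := by
  classical
  have hinj : Set.InjOn (ac c) S := fun a ha b hb e => by
    rw [← h.ac_inv hc (hS.lt a ha), e, h.ac_inv hc (hS.lt b hb)]
  refine ⟨?_, ?_, by rw [Finset.card_image_of_injOn hinj, hS.card], ?_, ?_⟩ <;>
    simp only [Finset.forall_mem_image]
  · exact fun s hs => h.ac_lt hc (hS.lt s hs)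
  · exact fun s hs t ht => Finset.mem_image.2 ⟨_, hS.xor s hs t ht, h.ac_xor hc (hS.lt s hs) (hS.lt t ht)⟩
  · intro s hs h0
    obtain ⟨t, ht, e⟩ := hS.nondeg s hs fun e => h0 (by rw [e, (h.iso hc).toLin8.zero])
    exact ⟨_, Finset.mem_image_of_mem _ ht, by rw [h.ac_bn hc (hS.lt s hs) (hS.lt t ht), e]⟩
  · intro s hs t ht h1 h2 h3 h4 h5
    rw [h.ac_qn hc (hS.lt _ hs)] at h1
    rw [h.ac_qn hc (hS.lt _ ht)] at h2
    rw [h.ac_bn hc (hS.lt _ hs) (hS.lt _ ht)] at h3
    rw [hS.line s hs t ht h1 h2 h3 (fun e => h4 (by rw [e, (h.iso hc).toLin8.zero]))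
      fun e => h5 (by rw [e, (h.iso hc).toLin8.zero])]

theorem Mini.span_mem {S : Finset ℕ} (hS : Mini S) :
    ∀ {l : List ℕ}, (∀ a ∈ l, a ∈ S) → ∀ k ∈ spanL l, k ∈ S
  | [], _, k, hk => by
    simp only [spanL, List.mem_singleton] at hk
    exact hk ▸ hS.zero
  | a :: l, h, k, hk => by
    simp only [spanL, List.mem_append, List.mem_map] at hk
    have ih := @Mini.span_mem S hS l (fun x hx => h x (List.mem_cons_of_mem _ hx))
    rcases hk with hk | ⟨j, hj, rfl⟩
    · exact ih k hk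
    · exact hS.xor a (h a List.mem_cons_self) j (ih j hj)

/-- An elliptic space is moved to the standard one by `C(z)`. -/
theorem exists_std {z : G} {Q : Subgroup G} {co : G → ℕ} {ac : G → ℕ → ℕ} (h : Frame z Q co ac)
    {S : Finset ℕ} (hS : Mini S) :
    ∃ c, Commute c z ∧ ∀ k < 256, (k ∈ S ↔ ac c k ∈ r0) := by
  classical
  suffices H : ∃ c, Commute c z ∧ S.image (ac c) = r0.toFinset by
    obtain ⟨c, hc, e⟩ := H
    refine ⟨c, hc, fun k hk => ?_⟩
    rw [← List.mem_toFinset, ← e, Finset.mem_image]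
    refine ⟨fun hk' => ⟨k, hk', rfl⟩, fun ⟨j, hj, hjk⟩ => ?_⟩
    have : j = k := by rw [← h.ac_inv hc (hS.lt j hj), hjk, h.ac_inv hc hk]
    exact this ▸ hj
  have step : ∀ {c d : G}, Commute c z → Commute d z →
      S.image (ac (d * c)) = (S.image (ac c)).image (ac d) := fun hc hd => by
    rw [Finset.image_image]
    exact Finset.image_congr fun s hs => h.ac_mul hd hc (hS.lt s hs)
  -- a singular point
  obtain ⟨s, hs, hs0, hsq⟩ := hS.exists_singular
  obtain ⟨c₁, hc₁, e₁⟩ := h.exists_to_one (hS.lt s hs) hs0 hsq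
  have h₁ := hS.image h hc₁
  have m₁ : 1 ∈ S.image (ac c₁) := Finset.mem_image.2 ⟨s, hs, e₁⟩
  -- its partner
  obtain ⟨t, ht, htb⟩ := h₁.nondeg 1 m₁ one_ne_zero
  obtain ⟨t, ht, htb, htq⟩ : ∃ t ∈ S.image (ac c₁), bn 1 t = true ∧ qn t = false := by
    cases hq : qn t with
    | false => exact ⟨t, ht, htb, hq⟩
    | true =>
      refine ⟨1 ^^^ t, h₁.xor 1 m₁ t ht, ?_, ?_⟩
      · rw [bn_add (by norm_num) (by norm_num) (h₁.lt t ht), htb]; rfl
      · rw [qn_add, hq, htb]; rfl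
  obtain ⟨haw, ea2, ea1⟩ := partner t (h₁.lt t ht) htq htb
  obtain ⟨c₂, hc₂, e₂⟩ := h.exists_eichW haw
  have h₂ := hS.image h (hc₂.mul_left hc₁)
  have m1 : 1 ∈ S.image (ac (c₂ * c₁)) := by
    rw [step hc₁ hc₂]
    exact Finset.mem_image.2 ⟨1, m₁, by rw [e₂ 1 (by norm_num), ea1]⟩
  have m2 : 2 ∈ S.image (ac (c₂ * c₁)) := by
    rw [step hc₁ hc₂]
    exact Finset.mem_image.2 ⟨t, ht, by rw [e₂ t (h₁.lt t ht), ea2]⟩
  have hmask : ∀ {T : Finset ℕ}, Mini T → 1 ∈ T → 2 ∈ T → ∀ k ∈ T, k &&& 252 ∈ T := by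
    intro T hT t1 t2 k hk
    have hz : (0 : ℕ) ∈ T := hT.zero
    rw [mask_eq k (hT.lt k hk)]
    exact hT.xor _ (hT.xor k hk _ (by cases bn 1 k <;> assumption)) _ (by cases bn 2 k <;> assumption)
  have hns : ∀ {T : Finset ℕ}, Mini T → 1 ∈ T → 2 ∈ T → ∀ k ∈ T, k &&& 252 ≠ 0 →
      k &&& 252 ∈ T ∧ k &&& 252 ∈ w6 ∧ qn (k &&& 252) = true := by
    intro T hT t1 t2 k hk h0
    obtain ⟨-, hb, -, hw, hne⟩ := mask_facts k (hT.lt k hk)
    refine ⟨hmask hT t1 t2 k hk, hw, ?_⟩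
    by_contra hq
    exact hne (hT.line 1 t1 _ (hmask hT t1 t2 k hk) (by decide +kernel) (Bool.eq_false_iff.2 hq) hb
      one_ne_zero h0).symm
  -- twelve
  obtain ⟨v, hv, hv4⟩ : ∃ v ∈ S.image (ac (c₂ * c₁)), v ∉ ({0, 1, 2, 3} : Finset ℕ) := by
    refine Finset.exists_mem_notMem_of_card_lt_card ?_
    rw [h₂.card]
    exact lt_of_le_of_lt Finset.card_le_four (by norm_num)
  have hv0 : v &&& 252 ≠ 0 := fun e => hv4 (by
    have := (mask_facts v (h₂.lt v hv)).1 e
    simp only [List.mem_cons, List.not_mem_nil, or_false] at this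
    simpa using this)
  obtain ⟨hvS, hvw, hvq⟩ := hns h₂ m1 m2 v hv hv0
  obtain ⟨p, hp, ep⟩ := ns_trans _ (mem_ns6 hvw hvq)
  obtain ⟨c₃, hc₃, e₃⟩ := h.exists_pr hp
  have hc := hc₂.mul_left hc₁
  have h₃ := hS.image h (hc₃.mul_left hc)
  have n1 : 1 ∈ S.image (ac (c₃ * (c₂ * c₁))) := by
    rw [step hc hc₃]
    exact Finset.mem_image.2 ⟨1, m1, by rw [e₃ 1 (by norm_num), pr_one hp]⟩
  have n2 : 2 ∈ S.image (ac (c₃ * (c₂ * c₁))) := by
    rw [step hc hc₃]
    exact Finset.mem_image.2 ⟨2, m2, by rw [e₃ 2 (by norm_num), pr_two p hp]⟩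
  have n12 : 12 ∈ S.image (ac (c₃ * (c₂ * c₁))) := by
    rw [step hc hc₃]
    exact Finset.mem_image.2 ⟨_, hvS, by rw [e₃ _ (lt_of_w6 hvw), ep]⟩
  -- fifty-two
  obtain ⟨w, hw, hwb⟩ := h₃.nondeg 12 n12 (by norm_num)
  have hwm := (mask_facts w (h₃.lt w hw)).2.2.1
  have hw0 : w &&& 252 ≠ 0 := fun e => by
    rw [e, bn_zero, hwb] at hwm
    exact absurd hwm (by simp)
  obtain ⟨hwS, hww, hwq⟩ := hns h₃ n1 n2 w hw hw0
  obtain ⟨p', hp', ep1, ep2, -⟩ := twelve _ hww hwq (hwm.trans hwb)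
  obtain ⟨c₄, hc₄, e₄⟩ := h.exists_pr hp'
  have hc' := hc₃.mul_left hc
  have h₄ := hS.image h (hc₄.mul_left hc')
  refine ⟨_, hc₄.mul_left hc', (Finset.eq_of_subset_of_card_le (fun r hr => ?_) ?_).symm⟩
  · rw [List.mem_toFinset] at hr
    have hbn : bn 12 (pr p' (w &&& 252)) = true := by
      conv_lhs => rw [← ep1]
      rw [pr_bn hp' (by norm_num) (lt_of_w6 hww), hwm, hwb]
    have hsp := fifty _ ep2 (pr_w6 hp' hww) hbn r hr
    have o1 : 1 ∈ S.image (ac (c₄ * (c₃ * (c₂ * c₁)))) := by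
      rw [step hc' hc₄]
      exact Finset.mem_image.2 ⟨1, n1, by rw [e₄ 1 (by norm_num), pr_one hp']⟩
    have o2 : 2 ∈ S.image (ac (c₄ * (c₃ * (c₂ * c₁)))) := by
      rw [step hc' hc₄]
      exact Finset.mem_image.2 ⟨2, n2, by rw [e₄ 2 (by norm_num), pr_two p' hp']⟩
    have o12 : 12 ∈ S.image (ac (c₄ * (c₃ * (c₂ * c₁)))) := by
      rw [step hc' hc₄]
      exact Finset.mem_image.2 ⟨12, n12, by rw [e₄ 12 (by norm_num), ep1]⟩
    have o52 : pr p' (w &&& 252) ∈ S.image (ac (c₄ * (c₃ * (c₂ * c₁)))) := by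
      rw [step hc' hc₄]
      exact Finset.mem_image.2 ⟨_, hwS, e₄ _ (lt_of_w6 hww)⟩
    exact h₄.span_mem (by
      intro a ha
      simp only [List.mem_cons, List.not_mem_nil, or_false] at ha
      rcases ha with rfl | rfl | rfl | rfl <;> assumption) r hsp
  · rw [h₄.card]; decide +kernel

/-- No element of `C(z)` acts as an odd isometry. -/
theorem not_odd {z : G} {Q : Subgroup G} {co : G → ℕ} {ac : G → ℕ → ℕ} (h : Frame z Q co ac) {c : G}
    (hc : Commute c z) {v : ℕ} (hv : v < 256) (hq : qn v = true) {w : List (ℕ × ℕ)} (hw : okWord w = true) :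
    ¬ ∀ k < 256, ac c k = refl v (prs w k) := fun e => by
  obtain ⟨d, hd, hdk⟩ := h.exists_prs hw
  refine h.not_refl _ (hc.mul_left hd.inv_left) v hv hq fun k hk => ?_
  have hk' := h.ac_lt hd.inv_left hk
  rw [h.ac_mul hc hd.inv_left hk, e _ hk', ← hdk _ hk', h.ac_inv' hd hk]

theorem okWord_append {a b : List (ℕ × ℕ)} (ha : okWord a = true) (hb : okWord b = true) :
    okWord (a ++ b) = true := by
  simp only [okWord, List.all_append] at *
  rw [ha, hb]; rfl

/-- The action of an element of `C(z)` preserving the standard space. -/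
theorem ac_split {z : G} {Q : Subgroup G} {co : G → ℕ} {ac : G → ℕ → ℕ} (h : Frame z Q co ac) {c : G}
    (hc : Commute c z) (hR : ∀ r ∈ r0, ac c r ∈ r0) :
    (∀ d ∈ d0, ac c d ∈ d0) ∧ ∃ wR ∈ evR, ∃ wD ∈ evD,
      (∀ k < 256, ac c k = prs (wR ++ wD) k) ∨ ∀ k < 256, ac c k = prs ((3, 28) :: (wR ++ wD)) k := by
  obtain ⟨hD, wR, hwR, wD, hwD, e | e⟩ := iso_split (h.iso hc) hR
  · exact ⟨hD, wR, hwR, wD, hwD, e⟩
  · exfalso
    have hw := okWord_append (evR_spec wR hwR).1 (evD_spec wD hwD).1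
    rcases e with e | e
    · exact not_odd h hc refl3_spec.1 refl3_spec.2.1 hw e
    · exact not_odd h hc refl28_spec.1 refl28_spec.2.1 hw e

theorem ac_pow {z : G} {Q : Subgroup G} {co : G → ℕ} {ac : G → ℕ → ℕ} (h : Frame z Q co ac) {c : G}
    (hc : Commute c z) {w : List (ℕ × ℕ)} (hw : okWord w = true) (e : ∀ k < 256, ac c k = prs w k) :
    ∀ i, okWord (pwW w i) = true ∧ ∀ k < 256, ac (c ^ i) k = prs (pwW w i) k := by
  intro i
  induction i with
  | zero => exact ⟨rfl, fun k hk => by rw [pow_zero, h.ac_Q (one_mem Q) hk]; rfl⟩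
  | succ i ih =>
    refine ⟨okWord_append hw ih.1, fun k hk => ?_⟩
    rw [pow_succ', h.ac_mul hc (hc.pow_left i) hk, ih.2 k hk, e _ ((prs_lin ih.1).lt k hk), pwW, prs_append]

/-- The setting: a subgroup of order five in standard position and a normalising interchange. -/
structure Fx (z : G) (Q : Subgroup G) (co : G → ℕ) (ac : G → ℕ → ℕ) (x n b : G) (β : List (ℕ × ℕ)) : Prop
    where
  duo : Duo z Q co ac x n
  ord : orderOf b = 5
  bz : Commute b z
  mem : β ∈ evD
  five : five β = true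
  act : ∀ k < 256, ac b k = prs β k
  fix : ∀ q ∈ Q, (Commute b q ↔ co q ∈ r0)
  nb : n * b * n⁻¹ ∈ Subgroup.zpowers b

theorem exists_fx [Finite G] {z : G} {Q : Subgroup G} {co : G → ℕ} {ac : G → ℕ → ℕ} (h : Frame z Q co ac)
    (hw : ∃ g : G, g * z * g⁻¹ ∈ Q ∧ g * z * g⁻¹ ≠ z) {b : G} (hb : orderOf b = 5) (hbz : Commute b z)
    (hcard : Nat.card ↥(Q ⊓ Subgroup.centralizer ({b} : Set G)) = 32)
    (hnd : ∀ q ∈ Q, Commute b q → (∀ r ∈ Q, Commute b r → Commute q r) → q = 1 ∨ q = z)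
    (hel : ∀ A : Subgroup G, A ≤ Q ⊓ Subgroup.centralizer ({b} : Set G) →
      Cfsg.IsElementaryAbelian 2 A → Nat.card A ≤ 4) :
    ∃ (co' : G → ℕ) (ac' : G → ℕ → ℕ) (x n : G) (β : List (ℕ × ℕ)), Fx z Q co' ac' x n b β := by
  classical
  haveI : Fact (Nat.Prime 5) := ⟨by norm_num⟩
  set R := Q ⊓ Subgroup.centralizer ({b} : Set G) with hR
  have hmem : ∀ {q}, q ∈ R ↔ q ∈ Q ∧ Commute b q := fun {q} => by
    rw [hR, Subgroup.mem_inf, Subgroup.mem_centralizer_singleton_iff]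
    exact ⟨fun e => ⟨e.1, e.2.symm⟩, fun e => ⟨e.1, e.2.eq.symm⟩⟩
  have hzR : z ∈ R := hmem.2 ⟨h.es.mem, hbz⟩
  set S : Finset ℕ := (Finset.range 256).filter fun k => ∃ q ∈ R, co q = k with hSdef
  have hSmem : ∀ {k}, k ∈ S ↔ ∃ q ∈ R, co q = k := fun {k} => by
    simp only [hSdef, Finset.mem_filter, Finset.mem_range]
    exact ⟨fun e => e.2, fun ⟨q, hq, e⟩ => ⟨e ▸ h.co_lt q (hmem.1 hq).1, q, hq, e⟩⟩
  have hlift : ∀ {k q}, k ∈ S → q ∈ Q → co q = k → q ∈ R := fun {k q} hk hq e => by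
    obtain ⟨r, hr, e'⟩ := hSmem.1 hk
    rcases h.co_eq (hmem.1 hr).1 hq (e'.trans e.symm) with rfl | rfl
    · exact hr
    · exact mul_mem hr hzR
  have hS : Mini S := by
    refine ⟨fun s hs => Finset.mem_range.1 (Finset.mem_filter.1 hs).1, ?_, ?_, ?_, ?_⟩
    · intro s hs t ht
      obtain ⟨q, hq, rfl⟩ := hSmem.1 hs
      obtain ⟨r, hr, rfl⟩ := hSmem.1 ht
      exact hSmem.2 ⟨q * r, mul_mem hq hr, h.co_mul q (hmem.1 hq).1 r (hmem.1 hr).1⟩
    · -- each code has two lifts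
      haveI := Fintype.ofFinite ↥R
      have := Finset.card_eq_sum_card_fiberwise (f := fun q : ↥R => co q) (s := Finset.univ) (t := S)
        (fun q _ => hSmem.2 ⟨q, q.2, rfl⟩)
      rw [Finset.card_univ, ← Nat.card_eq_fintype_card, hcard] at this
      rw [Finset.sum_const_nat (m := 2)] at this
      · omega
      intro k hk
      obtain ⟨r, hr, rfl⟩ := hSmem.1 hk
      refine Finset.card_eq_two.2 ⟨⟨r, hr⟩, ⟨r * z, mul_mem hr hzR⟩, ?_, ?_⟩
      · intro e
        exact h.es.ne (by simpa using congrArg Subtype.val e)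
      · ext q
        simp only [Finset.mem_filter, Finset.mem_univ, true_and, Finset.mem_insert, Finset.mem_singleton,
          Subtype.ext_iff]
        constructor
        · exact fun e => h.co_eq (hmem.1 hr).1 (hmem.1 q.2).1 e.symm
        · rintro (e | e) <;> rw [e]
          rw [h.co_mul r (hmem.1 hr).1 z h.es.mem, h.co_z, Nat.xor_zero]
    · intro s hs h0
      obtain ⟨q, hq, rfl⟩ := hSmem.1 hs
      by_contra hne
      have : q = 1 ∨ q = z := hnd q (hmem.1 hq).1 (hmem.1 hq).2 fun r hr hbr =>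
        (h.commute_Q (hmem.1 hq).1 hr).2 (Bool.eq_false_iff.2 fun e =>
          hne ⟨_, hSmem.2 ⟨r, hmem.2 ⟨hr, hbr⟩, rfl⟩, e⟩)
      rcases this with rfl | rfl
      · exact h0 h.co_one
      · exact h0 h.co_z
    · intro s hs t ht qs qt bst s0 t0
      by_contra hst
      obtain ⟨q, hq, rfl⟩ := hSmem.1 hs
      obtain ⟨r, hr, rfl⟩ := hSmem.1 ht
      obtain ⟨hqQ, -⟩ := hmem.1 hq
      obtain ⟨hrQ, -⟩ := hmem.1 hr
      set A := Subgroup.closure ({q, r, z} : Set G) with hA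
      have hsub : ({q, r, z} : Set G) ⊆ R := by
        rintro a (rfl | rfl | rfl) <;> assumption
      have hAR : A ≤ R := (Subgroup.closure_le R).2 hsub
      have hqr : Commute q r := (h.commute_Q hqQ hrQ).2 bst
      have hq2 : q * q = 1 := by rw [h.sq q hqQ, qs]; rfl
      have hr2 : r * r = 1 := by rw [h.sq r hrQ, qt]; rfl
      have hpair : ∀ a ∈ ({q, r, z} : Set G), ∀ c ∈ ({q, r, z} : Set G), a * c = c * a := by
        rintro a (rfl | rfl | rfl) c (rfl | rfl | rfl)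
        exacts [rfl, hqr.eq, (h.es.comm _ hqQ).eq, hqr.eq.symm, rfl, (h.es.comm _ hrQ).eq,
          (h.es.comm _ hqQ).eq.symm, (h.es.comm _ hrQ).eq.symm, rfl]
      haveI : IsMulCommutative ↥A := Subgroup.isMulCommutative_closure hpair
      have hea : Cfsg.IsElementaryAbelian 2 A := by
        refine ⟨inferInstance, fun a ha => ?_⟩
        induction ha using Subgroup.closure_induction with
        | mem a ha =>
          rcases ha with rfl | rfl | rfl
          exacts [(pow_two _).trans hq2, (pow_two _).trans hr2, (pow_two _).trans h.es.sq]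
        | one => exact one_pow 2
        | mul a c ha hc ea ec =>
          have e : a * c = c * a :=
            congrArg Subtype.val (IsMulCommutative.is_comm.comm (⟨a, ha⟩ : A) ⟨c, hc⟩)
          rw [(show Commute a c from e).mul_pow, ea, ec, one_mul]
        | inv a _ ea => rw [inv_pow, ea, inv_one]
      have h8 : 5 ≤ Nat.card A := by
        have hne : ∀ {a a' : G}, co a ≠ co a' → a ≠ a' := fun h e => h (congrArg co e)
        have cz := h.co_z
        have c1 := h.co_one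
        have cqr := h.co_mul q hqQ r hrQ
        have n0 : co q ^^^ co r ≠ 0 := fun e => hst (Nat.eq_of_xor_eq_zero e)
        have i1 : (1 : G) ≠ z := h.es.ne.symm
        have i2 : (1 : G) ≠ q := hne (by rw [c1]; exact s0.symm)
        have i3 : (1 : G) ≠ r := hne (by rw [c1]; exact t0.symm)
        have i4 : (1 : G) ≠ q * r := hne (by rw [c1, cqr]; exact n0.symm)
        have i5 : z ≠ q := hne (by rw [cz]; exact s0.symm)
        have i6 : z ≠ r := hne (by rw [cz]; exact t0.symm)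
        have i7 : z ≠ q * r := hne (by rw [cz, cqr]; exact n0.symm)
        have i8 : q ≠ r := hne hst
        have i9 : q ≠ q * r := fun e => i3 (left_eq_mul.1 e).symm
        have i10 : r ≠ q * r := fun e => i2 (right_eq_mul.1 e).symm
        have hqA : q ∈ A := Subgroup.subset_closure (by simp)
        have hrA : r ∈ A := Subgroup.subset_closure (by simp)
        have hzA : z ∈ A := Subgroup.subset_closure (by simp)
        have hnd5 : [1, z, q, r, q * r].Nodup := by
          simp only [List.nodup_cons, List.mem_cons, List.not_mem_nil, or_false, not_or, not_false_eq_true,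
            List.nodup_nil, and_true]
          exact ⟨⟨i1, i2, i3, i4⟩, ⟨i5, i6, i7⟩, ⟨i8, i9⟩, i10⟩
        have hsubA : ([1, z, q, r, q * r].toFinset : Set G) ⊆ A := by
          intro a ha
          simp only [List.coe_toFinset, List.mem_cons, List.not_mem_nil, or_false, Set.mem_ofPred_eq] at ha
          rcases ha with rfl | rfl | rfl | rfl | rfl
          exacts [one_mem A, hzA, hqA, hrA, mul_mem hqA hrA]
        have := Nat.card_mono (Set.toFinite _) hsubA
        rw [Nat.card_coe_set_eq, Set.ncard_coe_finset, List.toFinset_card_of_nodup hnd5] at this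
        exact this
      exact absurd (hel A hAR hea) (by omega)
  obtain ⟨c, hc, hcS⟩ := exists_std h hS
  set co' : G → ℕ := fun q => ac c (co q) with hco'
  set ac' : G → ℕ → ℕ := fun d k => ac (c * d * c⁻¹) k with hac'
  have h' : Frame z Q co' ac' := frame_shift h hc
  have hfix : ∀ q ∈ Q, (Commute b q ↔ co' q ∈ r0) := fun q hq => by
    rw [hco', ← hcS _ (h.co_lt q hq)]
    exact ⟨fun e => hSmem.2 ⟨q, hmem.2 ⟨hq, e⟩, rfl⟩, fun e => (hmem.1 (hlift e hq rfl)).2⟩
  have hbR : ∀ r ∈ r0, ac' b r = r := fun r hr => by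
    obtain ⟨q, hq, e⟩ := h'.co_surj r (r0_lt r hr)
    have hcom := (hfix q hq).2 (e ▸ hr)
    rw [← e, ← h'.conj b hbz q hq, hcom.mul_inv_cancel]
  obtain ⟨hbD, wR, hwR, wD, hwD, e | e⟩ := ac_split h' hbz fun r hr => (hbR r hr).symm ▸ hr
  swap
  · obtain ⟨r, hr, hne⟩ := refl3_ne wR hwR
    refine absurd ?_ hne
    have hr' := bR_mem r hr
    conv_rhs => rw [← hbR r hr', e r (r0_lt r hr')]
    show _ = refl 3 (refl 28 (prs (wR ++ wD) r))
    rw [prs_append, (evD_spec wD hwD).2.1 r hr', refl28_spec.2.2.1 _ ((evR_spec wR hwR).2.2 r hr')]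
  have lA := prs_lin (okWord_append (evR_spec wR hwR).1 (evD_spec wD hwD).1)
  have lD := prs_lin (evD_spec wD hwD).1
  have hact : ∀ k < 256, ac' b k = prs wD k := ext_all (h'.iso hbz).toLin8 lD
    (fun r hr => by rw [hbR r hr, (evD_spec wD hwD).2.1 r hr])
    fun d hd => by
      rw [e d (d0_lt d hd), prs_append, (evR_spec wR hwR).2.1 _ ((evD_spec wD hwD).2.2 d hd)]
  have hp := ac_pow h' hbz (evD_spec wD hwD).1 hact
  have hbQ : b ∉ Q := fun hq => by
    have h1 : orderOf b ∣ Nat.card Q := by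
      rw [← Subgroup.orderOf_mk b hq]; exact orderOf_dvd_natCard _
    rw [hb, h.card] at h1
    norm_num at h1
  have hfive : five wD = true := by
    simp only [five, Bool.and_eq_true, Bool.not_eq_true', beq_iff_eq, beq_eq_false_iff_ne]
    refine ⟨fun e => hbQ (h'.faithful b hbz fun k hk => ?_), ?_⟩
    · have hd := ext_d0 lD Lin8.id' fun x hx =>
        List.map_eq_map_iff.1 (e.trans (List.map_id bD).symm) x hx
      exact ext_all (h'.iso hbz).toLin8 Lin8.id' hbR
        (fun d hd' => by rw [hact d (d0_lt d hd'), hd d hd']) k hk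
    · refine (List.map_congr_left (g := id) fun x hx => ?_).trans (List.map_id bD)
      rw [← (hp 5).2 x (d0_lt x (bD_mem x hx)), show b ^ 5 = 1 by rw [← hb, pow_orderOf_eq_one]]
      exact h'.ac_Q (one_mem Q) (d0_lt x (bD_mem x hx))
  -- the interchange
  obtain ⟨x, n, d⟩ := h'.exists_duo hw
  have hbx : Commute b x := (hfix x d.xQ).2 (by rw [d.cox]; decide)
  set H := Subgroup.centralizer ({z} : Set G) ⊓ Subgroup.centralizer ({x} : Set G) with hH
  have hHm : ∀ {g}, g ∈ H ↔ Commute g z ∧ Commute g x := fun {g} => by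
    rw [hH, Subgroup.mem_inf, Subgroup.mem_centralizer_singleton_iff,
      Subgroup.mem_centralizer_singleton_iff]
    exact Iff.rfl
  have hBH : Subgroup.zpowers b ≤ H := Subgroup.zpowers_le.2 (hHm.2 ⟨hbz, hbx⟩)
  have hBp : IsPGroup 5 ↥((Subgroup.zpowers b).subgroupOf H) :=
    (IsPGroup.of_card (p := 5) (n := 1) (by rw [Nat.card_zpowers, hb, pow_one])).of_equiv
      (Subgroup.subgroupOfEquivOfLe hBH).symm
  obtain ⟨P, hP⟩ := hBp.exists_le_sylow
  have hPB : (P : Subgroup H) = (Subgroup.zpowers b).subgroupOf H := by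
    refine le_antisymm ?_ hP
    by_contra hlt
    haveI : Group.IsNilpotent ↥(P : Subgroup H) := P.2.isNilpotent
    have hlt' : ((Subgroup.zpowers b).subgroupOf H).subgroupOf (P : Subgroup H) < ⊤ :=
      lt_top_iff_ne_top.2 fun e => hlt (Subgroup.subgroupOf_eq_top.1 e)
    obtain ⟨y, hyN, hy⟩ := SetLike.exists_of_lt (normalizerCondition_of_isNilpotent _ hlt')
    set g : G := ((y : H) : G) with hg
    obtain ⟨hgz, hgx⟩ := hHm.1 (y : H).2
    have hnorm : g * b * g⁻¹ ∈ Subgroup.zpowers b := by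
      have := (Subgroup.mem_normalizer_iff.1 hyN
        ⟨⟨b, hBH (Subgroup.mem_zpowers b)⟩, hP (Subgroup.mem_zpowers b)⟩).1
        (Subgroup.mem_zpowers b)
      exact this
    obtain ⟨m, hm⟩ : ∃ m : ℕ, orderOf g = 5 ^ m := by
      obtain ⟨m, hm⟩ := (IsPGroup.iff_orderOf.1 P.2) y
      exact ⟨m, by rw [← hm, hg, Subgroup.orderOf_coe, Subgroup.orderOf_coe]⟩
    obtain ⟨j, hj⟩ := mem_zpowers_iff_mem_range_orderOf.1 hnorm |> Finset.mem_image.1
    have hj' : g * b * g⁻¹ = b ^ j := hj.2.symm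
    have hiter : ∀ i : ℕ, g ^ i * b * (g ^ i)⁻¹ = b ^ (j ^ i) := by
      intro i
      induction i with
      | zero => simp
      | succ i ih =>
        rw [show g ^ (i + 1) * b * (g ^ (i + 1))⁻¹ = g * (g ^ i * b * (g ^ i)⁻¹) * g⁻¹ by group, ih,
          ← conj_pow, hj', ← pow_mul, pow_succ]
        ring_nf
    have h1 : b ^ (j ^ (5 ^ m)) = b := by
      have hgm : g ^ (5 ^ m) = 1 := orderOf_dvd_iff_pow_eq_one.1 (hm ▸ dvd_rfl)
      rw [← hiter, hgm]; group
    have hmod : j ^ (5 ^ m) ≡ 1 [MOD 5] := by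
      have : j ^ (5 ^ m) ≡ 1 [MOD orderOf b] := by rw [← pow_eq_pow_iff_modEq, pow_one, h1]
      rwa [hb] at this
    have hj1 : j ≡ 1 [MOD 5] := by
      rw [← ZMod.natCast_eq_natCast_iff] at hmod ⊢
      push_cast at hmod ⊢
      rwa [ZMod.pow_card_pow] at hmod
    have hcomm : Commute g b := by
      refine mul_inv_eq_iff_eq_mul.1 (hj'.trans ?_)
      conv_rhs => rw [← pow_one b]
      rw [pow_eq_pow_iff_modEq, hb]; exact hj1
    have hgR : ∀ r ∈ r0, ac' g r ∈ r0 := fun r hr => by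
      obtain ⟨q, hq, eq⟩ := h'.co_surj r (r0_lt r hr)
      rw [← eq, ← h'.conj g hgz q hq, ← hfix _ (h'.norm g hgz q hq)]
      exact (hcomm.symm.mul_right ((hfix q hq).2 (eq ▸ hr))).mul_right hcomm.inv_left.symm
    have hgb : ∀ k ∈ bD, ac' g (prs wD k) = prs wD (ac' g k) := fun k hk => by
      have hk' := d0_lt k (bD_mem k hk)
      rw [← hact k hk', ← h'.ac_mul hgz hbz hk', hcomm.eq, h'.ac_mul hbz hgz hk',
        hact _ (h'.ac_lt hgz hk')]
    obtain ⟨hgD, vR, hvR, vD, hvD, e' | e'⟩ := ac_split h' hgz hgR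
    swap
    · obtain ⟨k, hk, hne⟩ := five_odd wD hwD hfive vD hvD
      have hd := bD_mem k hk
      have key : ∀ t ∈ d0, ac' g t = refl 28 (prs vD t) := fun t ht => by
        rw [e' t (d0_lt t ht)]
        show refl 3 (refl 28 (prs (vR ++ vD) t)) = _
        rw [prs_append, (evR_spec vR hvR).2.1 _ ((evD_spec vD hvD).2.2 t ht),
          refl3_spec.2.2.1 _ (refl28_spec.2.2.2 _ ((evD_spec vD hvD).2.2 t ht))]
      exact hne (by rw [← key _ ((evD_spec wD hwD).2.2 k hd), hgb k hk, key k hd])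
    have key : ∀ t ∈ d0, ac' g t = prs vD t := fun t ht => by
      rw [e' t (d0_lt t ht), prs_append, (evR_spec vR hvR).2.1 _ ((evD_spec vD hvD).2.2 t ht)]
    obtain ⟨i, -, hi⟩ := five_comm wD hwD hfive vD hvD (List.map_congr_left fun k hk => by
      rw [← key _ ((evD_spec wD hwD).2.2 k (bD_mem k hk)), hgb k hk, key k (bD_mem k hk)])
    -- `g` times a power of `b` acts trivially
    set g' := g * (b ^ i)⁻¹ with hg'
    have hg'z : Commute g' z := hgz.mul_left (hbz.pow_left i).inv_left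
    have hbi : ∀ t ∈ d0, prs vD t = prs (pwW wD i) t :=
      ext_d0 (prs_lin (evD_spec vD hvD).1) (prs_lin (hp i).1) fun x hx => List.map_eq_map_iff.1 hi x hx
    have hbir : ∀ r ∈ r0, ac' ((b ^ i)⁻¹) r = r := fun r hr => by
      have : ∀ i : ℕ, ac' (b ^ i) r = r := fun i => by
        induction i with
        | zero => rw [pow_zero]; exact h'.ac_Q (one_mem Q) (r0_lt r hr)
        | succ i ih => rw [pow_succ', h'.ac_mul hbz (hbz.pow_left i) (r0_lt r hr), ih, hbR r hr]
      conv_lhs => rw [← this i]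
      exact h'.ac_inv (hbz.pow_left i) (r0_lt r hr)
    have hg'k : ∀ k < 256, ac' g' k = prs vR k := by
      refine ext_all (h'.iso hg'z).toLin8 (prs_lin (evR_spec vR hvR).1) (fun r hr => ?_) fun t ht => ?_
      · rw [h'.ac_mul hgz (hbz.pow_left i).inv_left (r0_lt r hr), hbir r hr, e' r (r0_lt r hr), prs_append,
          (evD_spec vD hvD).2.1 r hr]
      · have hlt := h'.ac_lt (hbz.pow_left i).inv_left (d0_lt t ht)
        have hmem' : ac' (b ^ i)⁻¹ t ∈ d0 :=
          ((ac_split h' (hbz.pow_left i).inv_left fun r hr => (hbir r hr).symm ▸ hr).1) t ht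
        rw [h'.ac_mul hgz (hbz.pow_left i).inv_left (d0_lt t ht), key _ hmem', hbi _ hmem',
          ← (hp i).2 _ hlt, h'.ac_inv' (hbz.pow_left i) (d0_lt t ht), (evR_spec vR hvR).2.1 t ht]
    have hvR1 : prs vR 1 = 1 := by
      rw [← hg'k 1 (by norm_num), ← d.cox, ← h'.conj g' hg'z x d.xQ]
      congr 1
      exact ((hgx.mul_left (hbx.pow_left i).inv_left)).mul_inv_cancel
    have hg12 : g' ^ 12 ∈ Q := by
      obtain ⟨ok12, h12⟩ := ac_pow h' hg'z (evR_spec vR hvR).1 hg'k 12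
      refine h'.faithful _ (hg'z.pow_left 12) fun k hk => ?_
      rw [h12 k hk]
      refine ext_all (prs_lin ok12) Lin8.id' (ext_r0 (prs_lin ok12) Lin8.id' (pow12 vR hvR hvR1))
        (fun t ht => ?_) k hk
      have : ∀ i, prs (pwW vR i) t = t := fun i => by
        induction i with
        | zero => rfl
        | succ i ih => rw [pwW, prs_append, ih, (evR_spec vR hvR).2.1 t ht]
      exact this 12
    have hcom' : Commute g (b ^ i)⁻¹ := (hcomm.pow_right i).inv_right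
    have h5 : g' ^ (5 ^ (m + 1)) = 1 := by
      rw [hg', hcom'.mul_pow, inv_pow, pow_succ, pow_mul, ← hm, pow_orderOf_eq_one, one_pow, one_mul,
        hm, ← pow_mul, inv_eq_one, show i * (5 ^ m * 5) = 5 * (i * 5 ^ m) by ring, pow_mul, ← hb,
        pow_orderOf_eq_one, one_pow]
    have hd1 : orderOf g' ∣ 5 ^ (m + 1) := orderOf_dvd_of_pow_eq_one h5
    have hd2 : orderOf g' ∣ 12 * 512 := by
      refine orderOf_dvd_of_pow_eq_one ?_
      have e1 : (⟨g' ^ 12, hg12⟩ : ↥Q) ^ 512 = 1 := by rw [← h.card]; exact pow_card_eq_one'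
      rw [pow_mul]; exact congrArg Subtype.val e1
    have hcop : Nat.Coprime (5 ^ (m + 1)) (12 * 512) :=
      Nat.Coprime.pow_left _ (by norm_num)
    have hg'1 : g' = 1 := orderOf_eq_one_iff.1 (Nat.eq_one_of_dvd_coprimes hcop hd1 hd2)
    refine hy ?_
    show g ∈ Subgroup.zpowers b
    have : g = b ^ i := by rwa [hg', mul_inv_eq_one] at hg'1
    rw [this]; exact Subgroup.npow_mem_zpowers b i
  -- conjugating back by an element of `H`
  have hnH : ∀ g ∈ H, n * g * n⁻¹ ∈ H := fun g hg => by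
    obtain ⟨g1, g2⟩ := hHm.1 hg
    refine hHm.2 ⟨?_, d.sq_commute g1⟩
    have := g2.map (MulAut.conj n).toMonoidHom
    simpa [d.nx] using this
  set B' := (Subgroup.zpowers b).map (MulAut.conj n).toMonoidHom with hB'
  have hB'H : B' ≤ H := by
    rintro _ ⟨g, hg, rfl⟩
    exact hnH g (hBH hg)
  have hB'p : IsPGroup 5 ↥(B'.subgroupOf H) :=
    ((IsPGroup.of_card (p := 5) (n := 1) (by rw [Nat.card_zpowers, hb, pow_one])).map _).of_equiv
      (Subgroup.subgroupOfEquivOfLe hB'H).symm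
  obtain ⟨P', hP'⟩ := hB'p.exists_le_sylow
  obtain ⟨k, hk⟩ := MulAction.exists_smul_eq H P' P
  obtain ⟨hkz, hkx⟩ := hHm.1 k.2
  refine ⟨co', ac', x, (k : G) * n, wD,
    ⟨⟨h', d.xQ, d.cox, ?_, ?_⟩, hb, hbz, hwD, hfive, hact, hfix, ?_⟩⟩
  · calc (k : G) * n * z * ((k : G) * n)⁻¹ = k * (n * z * n⁻¹) * (k : G)⁻¹ := by group
      _ = x := by rw [d.nz, hkx.mul_inv_cancel]
  · calc (k : G) * n * x * ((k : G) * n)⁻¹ = k * (n * x * n⁻¹) * (k : G)⁻¹ := by group
      _ = z := by rw [d.nx, hkz.mul_inv_cancel]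
  · have h1 : (⟨n * b * n⁻¹, hB'H ⟨b, Subgroup.mem_zpowers b, rfl⟩⟩ : H) ∈ (P' : Subgroup H) :=
      hP' ⟨b, Subgroup.mem_zpowers b, rfl⟩
    have h2 : k * (⟨n * b * n⁻¹, hB'H ⟨b, Subgroup.mem_zpowers b, rfl⟩⟩ : H) * k⁻¹ ∈ (P : Subgroup H) := by
      rw [← hk, Sylow.coe_subgroup_smul]
      exact ⟨_, h1, rfl⟩
    rw [hPB] at h2
    have h3 : (k : G) * (n * b * n⁻¹) * (k : G)⁻¹ ∈ Subgroup.zpowers b := h2
    convert h3 using 1
    group

end Cfsg.Agent.Lib.Co1Type32
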