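import Cfsg.Agent.Lib.Co1Type32.Normal

/-!
# Conway type: the two commuting parts `M₁ = C_{C(z)}(D)` and `M₂ = C_{C(z)}(R)`

`R` and `D` are the preimages in `Q` of the standard spaces.

Owner: helper32.
-/

set_option autoImplicit false
set_option maxRecDepth 100000
set_option linter.style.haveILetI false

namespace Cfsg.Agent.Lib.Co1Type32

open Cfsg.Agent.Lib.Co1Type31

theorem five_diff : ∀ ws ∈ evD, five ws = true → ∀ e ∈ d0, ∃ d ∈ d0, e = d ^^^ prs ws d := by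
  decide +kernel

theorem evR_len : evR.length = 60 := by decide +kernel

theorem evD_len : evD.length = 60 := by decide +kernel

theorem mul_z_cases {G : Type*} [Group G] {z a : G} (hz : z * z = 1) :
    a = 1 ∨ a = z → a * a = 1 := by
  rintro (rfl | rfl)
  · exact one_mul 1
  · exact hz

/-- Two elements of a space as xors of a basis are determined by the values on the basis. -/
theorem map_eq_of_eqOn {f g : ℕ → ℕ} {b : List ℕ} (h : ∀ x ∈ b, f x = g x) : b.map f = b.map g :=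
  List.map_congr_left h

variable {G : Type*} [Group G] {z : G} {Q : Subgroup G} {co : G → ℕ} {ac : G → ℕ → ℕ} {x n b : G}
  {β : List (ℕ × ℕ)}

/-- The preimage of the first space. -/
def InR (Q : Subgroup G) (co : G → ℕ) (q : G) : Prop := q ∈ Q ∧ co q ∈ r0

/-- The preimage of the second space. -/
def InD (Q : Subgroup G) (co : G → ℕ) (q : G) : Prop := q ∈ Q ∧ co q ∈ d0

/-- The centraliser in `C(z)` of the preimage of the second space. -/
def partOne (z : G) (Q : Subgroup G) (co : G → ℕ) : Subgroup G :=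
  Subgroup.centralizer ({z} : Set G) ⊓ Subgroup.centralizer {q | InD Q co q}

/-- The centraliser in `C(z)` of the preimage of the first space. -/
def partTwo (z : G) (Q : Subgroup G) (co : G → ℕ) : Subgroup G :=
  Subgroup.centralizer ({z} : Set G) ⊓ Subgroup.centralizer {q | InR Q co q}

theorem mem_partOne {g : G} : g ∈ partOne z Q co ↔ Commute g z ∧ ∀ q, InD Q co q → Commute g q := by
  rw [partOne, Subgroup.mem_inf, Subgroup.mem_centralizer_singleton_iff, Subgroup.mem_centralizer_iff]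
  exact and_congr Iff.rfl ⟨fun h q hq => (h q hq).symm, fun h q hq => (h q hq).eq.symm⟩

theorem mem_partTwo {g : G} : g ∈ partTwo z Q co ↔ Commute g z ∧ ∀ q, InR Q co q → Commute g q := by
  rw [partTwo, Subgroup.mem_inf, Subgroup.mem_centralizer_singleton_iff, Subgroup.mem_centralizer_iff]
  exact and_congr Iff.rfl ⟨fun h q hq => (h q hq).symm, fun h q hq => (h q hq).eq.symm⟩

namespace Fx

variable (f : Fx z Q co ac x n b β)
include f

theorem fr : Frame z Q co ac := f.duo.fr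

theorem b5 : b ^ 5 = 1 := by rw [← f.ord, pow_orderOf_eq_one]

theorem okβ : okWord β = true := (evD_spec β f.mem).1

theorem act_pow (i : ℕ) : okWord (pwW β i) = true ∧ ∀ k < 256, ac (b ^ i) k = prs (pwW β i) k :=
  ac_pow f.fr f.bz f.okβ f.act i

theorem b_fix {r : ℕ} (hr : r ∈ r0) : ac b r = r := by
  rw [f.act r (r0_lt r hr), (evD_spec β f.mem).2.1 r hr]

theorem pw_fix (i : ℕ) : ∀ r ∈ r0, prs (pwW β i) r = r := by
  induction i with
  | zero => exact fun _ _ => rfl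
  | succ i ih => exact fun r hr => by rw [pwW, prs_append, ih r hr, (evD_spec β f.mem).2.1 r hr]

theorem pw_d0 (i : ℕ) : ∀ d ∈ d0, prs (pwW β i) d ∈ d0 := by
  induction i with
  | zero => exact fun _ h => h
  | succ i ih =>
    intro d hd
    rw [pwW, prs_append]
    exact (evD_spec β f.mem).2.2 _ (ih d hd)

/-- The powers of `b` are determined by their action. -/
theorem pow_eq {i j : ℕ} (hi : i < 5) (hj : j < 5)
    (h : ∀ d ∈ bD, ac (b ^ i) d = ac (b ^ j) d) : i = j := by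
  have he : bD.map (prs (pwW β i)) = bD.map (prs (pwW β j)) := map_eq_of_eqOn fun d hd => by
    have hlt := d0_lt d (bD_mem d hd)
    rw [← (f.act_pow i).2 d hlt, ← (f.act_pow j).2 d hlt, h d hd]
  exact (List.nodup_iff_injective_getElem.1 (pw_inj β f.mem f.five)
    (a₁ := ⟨i, by simpa using hi⟩) (a₂ := ⟨j, by simpa using hj⟩) (by simpa using he)) |> Fin.mk.inj_iff.1

theorem pow_notMem {i : ℕ} (hi : i < 5) (h : b ^ i ∈ Q) : i = 0 :=
  f.pow_eq hi (by norm_num) fun d hd => by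
    rw [f.fr.ac_Q h (d0_lt d (bD_mem d hd)), pow_zero, f.fr.ac_Q (one_mem Q) (d0_lt d (bD_mem d hd))]

theorem pow_mod (i : ℕ) : b ^ i = b ^ (i % 5) := by
  rw [← pow_mod_orderOf, f.ord]

theorem zpowers_cases {g : G} (hg : g ∈ Subgroup.zpowers b) : ∃ i < 5, g = b ^ i := by
  have h5 : IsOfFinOrder b := orderOf_pos_iff.1 (by rw [f.ord]; norm_num)
  obtain ⟨i, rfl⟩ := h5.mem_powers_iff_mem_zpowers.2 hg
  exact ⟨i % 5, Nat.mod_lt _ (by norm_num), f.pow_mod i⟩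

theorem disjoint {g : G} (hg : g ∈ Subgroup.zpowers b) (hQ : g ∈ Q) : g = 1 := by
  obtain ⟨i, hi, rfl⟩ := f.zpowers_cases hg
  rw [f.pow_notMem hi hQ, pow_zero]

theorem inR_iff {q : G} : InR Q co q ↔ q ∈ Q ∧ Commute b q :=
  ⟨fun h => ⟨h.1, (f.fix q h.1).2 h.2⟩, fun h => ⟨h.1, (f.fix q h.1).1 h.2⟩⟩

theorem inR_x : InR Q co x := ⟨f.duo.xQ, by rw [f.duo.cox]; decide⟩

theorem bx : Commute b x := (f.inR_iff.1 f.inR_x).2

theorem inR_z : InR Q co z := ⟨f.fr.es.mem, by rw [f.fr.co_z]; decide⟩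

theorem inD_z : InD Q co z := ⟨f.fr.es.mem, by rw [f.fr.co_z]; decide⟩

theorem commute_RD {q r : G} (hq : InR Q co q) (hr : InD Q co r) : Commute q r :=
  (f.fr.commute_Q hq.1 hr.1).2 (perp _ hq.2 _ hr.2)

theorem exists_inR {k : ℕ} (hk : k ∈ r0) : ∃ q, InR Q co q ∧ co q = k := by
  obtain ⟨q, hq, e⟩ := f.fr.co_surj k (r0_lt k hk)
  exact ⟨q, ⟨hq, e ▸ hk⟩, e⟩

theorem exists_inD {k : ℕ} (hk : k ∈ d0) : ∃ q, InD Q co q ∧ co q = k := by
  obtain ⟨q, hq, e⟩ := f.fr.co_surj k (d0_lt k hk)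
  exact ⟨q, ⟨hq, e ▸ hk⟩, e⟩

theorem inR_of_commute {q : G} (hq : q ∈ Q) (h : ∀ r, InD Q co r → Commute q r) : InR Q co q := by
  refine ⟨hq, (r0_iff _ (f.fr.co_lt q hq)).2 fun d hd => ?_⟩
  obtain ⟨r, hr, e⟩ := f.exists_inD (bD_mem d hd)
  rw [← e]
  exact (f.fr.commute_Q hq hr.1).1 (h r hr)

theorem inD_of_commute {q : G} (hq : q ∈ Q) (h : ∀ r, InR Q co r → Commute q r) : InD Q co q := by
  refine ⟨hq, (d0_iff _ (f.fr.co_lt q hq)).2 fun d hd => ?_⟩
  obtain ⟨r, hr, e⟩ := f.exists_inR (bR_mem d hd)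
  rw [← e]
  exact (f.fr.commute_Q hq hr.1).1 (h r hr)

theorem eq_z_of_RD {q : G} (h1 : InR Q co q) (h2 : InD Q co q) : q = 1 ∨ q = z :=
  f.fr.co_zero q h1.1 (r0_d0 _ h1.2 h2.2)

theorem inR_conj {c q : G} (hc : Commute c z) (h : ∀ r ∈ r0, ac c r ∈ r0) (hq : InR Q co q) :
    InR Q co (c * q * c⁻¹) :=
  ⟨f.fr.norm c hc q hq.1, by rw [f.fr.conj c hc q hq.1]; exact h _ hq.2⟩

theorem inD_conj {c q : G} (hc : Commute c z) (h : ∀ d ∈ d0, ac c d ∈ d0) (hq : InD Q co q) :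
    InD Q co (c * q * c⁻¹) :=
  ⟨f.fr.norm c hc q hq.1, by rw [f.fr.conj c hc q hq.1]; exact h _ hq.2⟩

theorem b_pres : (∀ r ∈ r0, ac b r ∈ r0) ∧ ∀ d ∈ d0, ac b d ∈ d0 :=
  ⟨fun r hr => by rw [f.b_fix hr]; exact hr, fun d hd => by
    rw [f.act d (d0_lt d hd)]; exact (evD_spec β f.mem).2.2 d hd⟩

/-- An element of `C(z)` centralising `b` preserves the standard space. -/
theorem pres_of_commute {c : G} (hc : Commute c z) (hcb : Commute c b) : ∀ r ∈ r0, ac c r ∈ r0 := fun r hr => by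
  obtain ⟨q, hq, e⟩ := f.exists_inR hr
  rw [← e, ← f.fr.conj c hc q hq.1]
  refine (f.fix _ (f.fr.norm c hc q hq.1)).1 ?_
  exact (hcb.symm.mul_right (f.inR_iff.1 hq).2).mul_right hcb.inv_left.symm

/-- The action of an element of `C(z)` centralising `b`. -/
theorem ac_commuting {c : G} (hc : Commute c z) (hcb : Commute c b) :
    ∃ wR ∈ evR, ∃ i < 5, ∀ k < 256, ac c k = prs (wR ++ pwW β i) k := by
  have hR := f.pres_of_commute hc hcb
  obtain ⟨hD, wR, hwR, wD, hwD, e | e⟩ := ac_split f.fr hc hR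
  swap
  · obtain ⟨k, hk, hne⟩ := five_odd β f.mem f.five wD hwD
    have hk' := bD_mem k hk
    have key : ∀ t ∈ d0, ac c t = refl 28 (prs wD t) := fun t ht => by
      rw [e t (d0_lt t ht)]
      show refl 3 (refl 28 (prs (wR ++ wD) t)) = _
      rw [prs_append, (evR_spec wR hwR).2.1 _ ((evD_spec wD hwD).2.2 t ht),
        refl3_spec.2.2.1 _ (refl28_spec.2.2.2 _ ((evD_spec wD hwD).2.2 t ht))]
    refine absurd ?_ hne
    rw [← key _ ((evD_spec β f.mem).2.2 k hk'), ← f.act k (d0_lt k hk'),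
      ← f.fr.ac_mul hc f.bz (d0_lt k hk'), hcb.eq, f.fr.ac_mul f.bz hc (d0_lt k hk'),
      f.act _ (f.fr.ac_lt hc (d0_lt k hk')), key k hk']
  have key : ∀ t ∈ d0, ac c t = prs wD t := fun t ht => by
    rw [e t (d0_lt t ht), prs_append, (evR_spec wR hwR).2.1 _ ((evD_spec wD hwD).2.2 t ht)]
  obtain ⟨i, hi, he⟩ := five_comm β f.mem f.five wD hwD (map_eq_of_eqOn fun k hk => by
    have hk' := bD_mem k hk
    rw [← key _ ((evD_spec β f.mem).2.2 k hk'), ← f.act k (d0_lt k hk'),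
      ← f.fr.ac_mul hc f.bz (d0_lt k hk'), hcb.eq, f.fr.ac_mul f.bz hc (d0_lt k hk'),
      f.act _ (f.fr.ac_lt hc (d0_lt k hk')), key k hk'])
  have lR := prs_lin (evR_spec wR hwR).1
  have lP := prs_lin (f.act_pow i).1
  refine ⟨wR, hwR, i, hi, ext_all (f.fr.iso hc).toLin8
    (prs_lin (okWord_append (evR_spec wR hwR).1 (f.act_pow i).1)) (fun r hr => ?_) fun t ht => ?_⟩
  · rw [e r (r0_lt r hr), prs_append, prs_append, f.pw_fix i r hr, (evD_spec wD hwD).2.1 r hr]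
  · rw [key t ht, prs_append, (evR_spec wR hwR).2.1 _ (f.pw_d0 i t ht)]
    exact ext_d0 (prs_lin (evD_spec wD hwD).1) lP (List.map_eq_map_iff.1 he) t ht

variable [Finite G]

/-- Elements of order five over the image of `b ^ i` are conjugate to it under `Q`. -/
theorem exists_norm {c : G} (hc : Commute c z) {i : ℕ}
    (h : ∀ k < 256, ac (c * b * c⁻¹) k = ac (b ^ i) k) :
    ∃ q ∈ Q, (q * c) * b * (q * c)⁻¹ = b ^ i := by
  haveI : Fact (Nat.Prime 5) := ⟨by norm_num⟩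
  have hnQ : ∀ (j : ℤ), ∀ q ∈ Q, b ^ j * q * (b ^ j)⁻¹ ∈ Q := fun j q hq =>
    f.fr.norm _ (f.bz.zpow_left j) q hq
  let K : Subgroup G :=
    { carrier := {g | ∃ j : ℤ, (b ^ j)⁻¹ * g ∈ Q}
      one_mem' := ⟨0, by simpa using one_mem Q⟩
      mul_mem' := by
        rintro g g' ⟨j, hj⟩ ⟨j', hj'⟩
        refine ⟨j + j', ?_⟩
        convert mul_mem (hnQ (-j') _ hj) hj' using 1
        group
      inv_mem' := by
        rintro g ⟨j, hj⟩
        refine ⟨-j, ?_⟩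
        convert hnQ j _ (inv_mem hj) using 1
        group }
  have hbK : b ∈ K := ⟨1, by simp⟩
  have hBK : Subgroup.zpowers b ≤ K := Subgroup.zpowers_le.2 hbK
  set g := c * b * c⁻¹ with hg
  have hgz : Commute g z := (hc.mul_left f.bz).mul_left hc.inv_left
  have hgQ : (b ^ i)⁻¹ * g ∈ Q := by
    refine f.fr.faithful _ ((f.bz.pow_left i).inv_left.mul_left hgz) fun k hk => ?_
    rw [f.fr.ac_mul (f.bz.pow_left i).inv_left hgz hk, h k hk, f.fr.ac_inv (f.bz.pow_left i) hk]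
  have hgK : g ∈ K := ⟨i, by simpa using hgQ⟩
  have hBp : IsPGroup 5 ↥((Subgroup.zpowers b).subgroupOf K) :=
    (IsPGroup.of_card (p := 5) (n := 1) (by rw [Nat.card_zpowers, f.ord, pow_one])).of_equiv
      (Subgroup.subgroupOfEquivOfLe hBK).symm
  obtain ⟨P, hP⟩ := hBp.exists_le_sylow
  have hPB : ∀ a : K, a ∈ (P : Subgroup K) → (a : G) ∈ Subgroup.zpowers b := by
    intro a ha
    obtain ⟨j, hj⟩ := a.2
    have hb' : (⟨b ^ j, zpow_mem hbK j⟩ : K) ∈ (P : Subgroup K) := hP (Subgroup.zpow_mem_zpowers b j)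
    obtain ⟨m, hm⟩ := (IsPGroup.iff_orderOf.1 P.2) ⟨_, mul_mem (inv_mem hb') ha⟩
    have hm' : orderOf ((b ^ j)⁻¹ * (a : G)) = 5 ^ m := by
      rw [← hm, Subgroup.orderOf_mk, ← Subgroup.orderOf_coe]
      rfl
    have hd : orderOf ((b ^ j)⁻¹ * (a : G)) ∣ 512 := by
      rw [← Subgroup.orderOf_mk _ hj, ← f.fr.card]; exact orderOf_dvd_natCard _
    have : (b ^ j)⁻¹ * (a : G) = 1 := orderOf_eq_one_iff.1
      (Nat.eq_one_of_dvd_coprimes (Nat.Coprime.pow_left m (by norm_num : Nat.Coprime 5 512))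
        (hm' ▸ dvd_rfl) hd)
    rw [inv_mul_eq_one] at this
    exact this ▸ Subgroup.zpow_mem_zpowers b j
  have hgp : IsPGroup 5 ↥((Subgroup.zpowers g).subgroupOf K) :=
    (IsPGroup.of_card (p := 5) (n := 1) (by
      rw [Nat.card_zpowers, hg, pow_one, ← f.ord]
      exact orderOf_injective (MulAut.conj c).toMonoidHom (MulAut.conj c).injective b)).of_equiv
      (Subgroup.subgroupOfEquivOfLe (Subgroup.zpowers_le.2 hgK)).symm
  obtain ⟨P', hP'⟩ := hgp.exists_le_sylow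
  obtain ⟨k, hk⟩ := MulAction.exists_smul_eq K P' P
  have h1 : k * (⟨g, hgK⟩ : K) * k⁻¹ ∈ (P : Subgroup K) := by
    rw [← hk, Sylow.coe_subgroup_smul]
    exact ⟨⟨g, hgK⟩, hP' (Subgroup.mem_zpowers g), rfl⟩
  have h2 : (k : G) * g * (k : G)⁻¹ ∈ Subgroup.zpowers b := hPB _ h1
  obtain ⟨j, hj⟩ := k.2
  set q := (b ^ j)⁻¹ * (k : G) with hq
  have h3 : q * g * q⁻¹ ∈ Subgroup.zpowers b := by
    have := mul_mem (mul_mem (inv_mem (Subgroup.zpow_mem_zpowers b j)) h2) (Subgroup.zpow_mem_zpowers b j)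
    convert this using 1
    rw [hq]; group
  refine ⟨q, hj, ?_⟩
  have h4 : q * g * q⁻¹ * (b ^ i)⁻¹ ∈ Q := by
    have e : q * g * q⁻¹ * (b ^ i)⁻¹ =
        q * (b ^ i * ((b ^ i)⁻¹ * g) * (b ^ i)⁻¹) * (b ^ i * q⁻¹ * (b ^ i)⁻¹) := by group
    rw [e]
    exact mul_mem (mul_mem hj (f.fr.norm _ (f.bz.pow_left i) _ hgQ))
      (f.fr.norm _ (f.bz.pow_left i) _ (inv_mem hj))
  have h5 := f.disjoint (mul_mem h3 (inv_mem (Subgroup.npow_mem_zpowers b i))) h4
  rw [mul_inv_eq_one] at h5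
  rw [← h5, hg]
  group

/-- A lift centralising `b` of a word commuting with its action. -/
theorem exists_comm_lift {w : List (ℕ × ℕ)} (hw : okWord w = true)
    (h : ∀ k ∈ bR ++ bD, prs w (prs β k) = prs β (prs w k)) :
    ∃ c, Commute c z ∧ Commute c b ∧ ∀ k < 256, ac c k = prs w k := by
  obtain ⟨c, hc, hck⟩ := f.fr.exists_prs hw
  have lw := prs_lin hw
  have lb := prs_lin f.okβ
  have hlt : ∀ k ∈ bR ++ bD, k < 256 := by decide
  have hall : ∀ k < 256, prs w (prs β k) = prs β (prs w k) := fun k hk =>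
    (ext_span (lw.comp lb) (lb.comp lw) hlt h k (all_span k hk)).2
  obtain ⟨q, hq, he⟩ := f.exists_norm hc (i := 1) fun k hk => by
    have hk' := f.fr.ac_lt hc.inv_left hk
    rw [f.fr.ac_conj f.bz hc hk, f.act _ hk', hck _ ((prs_lin f.okβ).lt _ hk'), hall _ hk', ← hck _ hk',
      f.fr.ac_inv' hc hk, pow_one, f.act k hk]
  have hqz := f.fr.es.comm q hq
  refine ⟨q * c, hqz.mul_left hc, ?_, fun k hk => ?_⟩
  · rw [pow_one] at he
    exact mul_inv_eq_iff_eq_mul.1 he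
  · rw [f.fr.ac_mul hqz hc hk, hck k hk, f.fr.ac_Q hq (lw.lt k hk)]

omit [Finite G] in
theorem partOne_fix {c : G} (hc : c ∈ partOne z Q co) : ∀ d ∈ d0, ac c d = d := fun d hd => by
  obtain ⟨q, hq, e⟩ := f.exists_inD hd
  obtain ⟨hcz, hcq⟩ := mem_partOne.1 hc
  rw [← e, ← f.fr.conj c hcz q hq.1, (hcq q hq).mul_inv_cancel]

omit [Finite G] in
theorem partTwo_fix {c : G} (hc : c ∈ partTwo z Q co) : ∀ r ∈ r0, ac c r = r := fun r hr => by
  obtain ⟨q, hq, e⟩ := f.exists_inR hr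
  obtain ⟨hcz, hcq⟩ := mem_partTwo.1 hc
  rw [← e, ← f.fr.conj c hcz q hq.1, (hcq q hq).mul_inv_cancel]

omit [Finite G] in
theorem partOne_pres {c : G} (hc : c ∈ partOne z Q co) : ∀ r ∈ r0, ac c r ∈ r0 := fun r hr => by
  have hcz := (mem_partOne.1 hc).1
  refine (r0_iff _ (f.fr.ac_lt hcz (r0_lt r hr))).2 fun d hd => ?_
  have hd' := bD_mem d hd
  conv_lhs => rw [← f.partOne_fix hc d hd']
  rw [f.fr.ac_bn hcz (r0_lt r hr) (d0_lt d hd')]
  exact perp r hr d hd'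

omit [Finite G] in
theorem partTwo_pres {c : G} (hc : c ∈ partTwo z Q co) : ∀ d ∈ d0, ac c d ∈ d0 :=
  (ac_split f.fr (mem_partTwo.1 hc).1 fun r hr => by rw [f.partTwo_fix hc r hr]; exact hr).1

omit [Finite G] in
/-- `M₁` centralises `b`. -/
theorem partOne_b {c : G} (hc : c ∈ partOne z Q co) : Commute c b := by
  obtain ⟨hcz, hcq⟩ := mem_partOne.1 hc
  set q := c * b * c⁻¹ * b⁻¹ with hq
  have hqz : Commute q z := ((hcz.mul_left f.bz).mul_left hcz.inv_left).mul_left f.bz.inv_left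
  have hqQ : q ∈ Q := by
    refine f.fr.faithful q hqz fun k hk => ?_
    refine ext_all (f.fr.iso hqz).toLin8 Lin8.id' (fun r hr => ?_) (fun d hd => ?_) k hk
    · have hb' : ac b⁻¹ r = r := by
        conv_lhs => rw [← f.b_fix hr]
        exact f.fr.ac_inv f.bz (r0_lt r hr)
      have hlt := r0_lt r hr
      have hm := f.fr.ac_lt hcz.inv_left hlt
      have hmem : ac c⁻¹ r ∈ r0 := f.partOne_pres (inv_mem hc) r hr
      rw [hq, f.fr.ac_mul ((hcz.mul_left f.bz).mul_left hcz.inv_left) f.bz.inv_left hlt, hb',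
        f.fr.ac_conj f.bz hcz hlt, f.b_fix hmem, f.fr.ac_inv' hcz hlt]
    · have hlt := d0_lt d hd
      have hm := f.fr.ac_lt f.bz.inv_left hlt
      have hmem : ac b⁻¹ d ∈ d0 :=
        (ac_split f.fr f.bz.inv_left fun r hr => by
          rw [show ac b⁻¹ r = r from by
            conv_lhs => rw [← f.b_fix hr]
            exact f.fr.ac_inv f.bz (r0_lt r hr)]
          exact hr).1 d hd
      rw [hq, f.fr.ac_mul ((hcz.mul_left f.bz).mul_left hcz.inv_left) f.bz.inv_left hlt,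
        f.fr.ac_conj f.bz hcz hm, f.partOne_fix (inv_mem hc) _ hmem, f.fr.ac_inv' f.bz hlt,
        f.partOne_fix hc d hd]
  have hqR : InR Q co q := f.inR_of_commute hqQ fun r hr => by
    have hdb : ∀ d ∈ d0, ac b⁻¹ d ∈ d0 := (ac_split f.fr f.bz.inv_left fun t ht => by
      rw [show ac b⁻¹ t = t from by
        conv_lhs => rw [← f.b_fix ht]
        exact f.fr.ac_inv f.bz (r0_lt t ht)]
      exact ht).1
    have h2 : Commute c (b⁻¹ * r * b⁻¹⁻¹) := hcq _ (f.inD_conj f.bz.inv_left hdb hr)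
    rw [inv_inv] at h2
    have h1 : c * (b⁻¹ * r * b) * c⁻¹ = b⁻¹ * r * b := h2.mul_inv_cancel
    have e1 : c⁻¹ * r * c = r := by rw [mul_assoc, ← (hcq r hr).eq, inv_mul_cancel_left]
    have e2 : c * r * c⁻¹ = r := (hcq r hr).mul_inv_cancel
    refine mul_inv_eq_iff_eq_mul.1 ?_
    calc q * r * q⁻¹ = c * (b * (c⁻¹ * (b⁻¹ * r * b) * c) * b⁻¹) * c⁻¹ := by rw [hq]; group
      _ = c * (b * (b⁻¹ * r * b) * b⁻¹) * c⁻¹ := by
        conv_lhs => rw [← h1]
        group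
      _ = c * r * c⁻¹ := by group
      _ = r := e2
  have hbq := (f.inR_iff.1 hqR).2
  have h5 : q ^ 5 = 1 := by
    have e : q * b = c * b * c⁻¹ := by rw [hq]; group
    have e5 : (q * b) ^ 5 = 1 := by rw [e, conj_pow, f.b5]; group
    rwa [(show Commute q b from hbq.symm).mul_pow, f.b5, mul_one] at e5
  have : q = 1 := by
    have hd1 : orderOf q ∣ 5 := orderOf_dvd_of_pow_eq_one h5
    have hd2 : orderOf q ∣ 512 := by
      rw [← Subgroup.orderOf_mk _ hqQ, ← f.fr.card]; exact orderOf_dvd_natCard _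
    exact orderOf_eq_one_iff.1 (Nat.eq_one_of_dvd_coprimes (by norm_num) hd1 hd2)
  exact mul_inv_eq_iff_eq_mul.1 (mul_inv_eq_one.1 (hq ▸ this))

omit [Finite G] in
theorem one_inter {q : G} (hq : q ∈ Q) : q ∈ partOne z Q co ↔ InR Q co q :=
  ⟨fun h => f.inR_of_commute hq (mem_partOne.1 h).2,
    fun h => mem_partOne.2 ⟨f.fr.es.comm q hq, fun _ hr => f.commute_RD h hr⟩⟩

omit [Finite G] in
theorem two_inter {q : G} (hq : q ∈ Q) : q ∈ partTwo z Q co ↔ InD Q co q :=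
  ⟨fun h => f.inD_of_commute hq (mem_partTwo.1 h).2,
    fun h => mem_partTwo.2 ⟨f.fr.es.comm q hq, fun _ hr => (f.commute_RD hr h).symm⟩⟩

omit [Finite G] in
/-- An element centralising `z, b` and trivial on the second space lies in `M₁`. -/
theorem mem_one_of_fix {c : G} (hc : Commute c z) (hcb : Commute c b) (h : ∀ d ∈ d0, ac c d = d) :
    c ∈ partOne z Q co := by
  refine mem_partOne.2 ⟨hc, fun e he => ?_⟩
  obtain ⟨d, hd, hde⟩ := five_diff β f.mem f.five _ he.2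
  obtain ⟨q, hq, hqd⟩ := f.exists_inD hd
  have hbq := f.inD_conj f.bz f.b_pres.2 hq
  obtain ⟨w, hw, e1⟩ : ∃ w, (w = 1 ∨ w = z) ∧ c * q * c⁻¹ = q * w := by
    rcases f.fr.co_eq hq.1 (f.fr.norm c hc q hq.1) (by rw [f.fr.conj c hc q hq.1, h _ hq.2]) with e | e
    · exact ⟨1, Or.inl rfl, by rw [e, mul_one]⟩
    · exact ⟨z, Or.inr rfl, e⟩
  have hwc : Commute w (b * q * b⁻¹) := by
    rcases hw with rfl | rfl
    · exact Commute.one_left _
    · exact (f.fr.es.comm _ hbq.1).symm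
  have hbw : b * w * b⁻¹ = w := by
    rcases hw with rfl | rfl
    · group
    · exact f.bz.mul_inv_cancel
  have e2 : c * (b * q * b⁻¹) * c⁻¹ = b * q * b⁻¹ * w := by
    calc c * (b * q * b⁻¹) * c⁻¹ = (c * b) * q * (c * b)⁻¹ := by group
      _ = b * (c * q * c⁻¹) * b⁻¹ := by rw [hcb.eq]; group
      _ = (b * q * b⁻¹) * (b * w * b⁻¹) := by rw [e1]; group
      _ = _ := by rw [hbw]
  set p := q * (b * q * b⁻¹) with hp
  have hpc : Commute c p := by
    refine mul_inv_eq_iff_eq_mul.1 ?_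
    calc c * p * c⁻¹ = (c * q * c⁻¹) * (c * (b * q * b⁻¹) * c⁻¹) := by rw [hp]; group
      _ = q * (w * (b * q * b⁻¹)) * w := by rw [e1, e2]; group
      _ = p * (w * w) := by rw [hwc.eq, hp]; group
      _ = p := by rw [mul_z_cases f.fr.es.sq hw, mul_one]
  have hpe : co p = co e := by
    rw [hp, f.fr.co_mul q hq.1 _ hbq.1, f.fr.conj b f.bz q hq.1, f.act _ (f.fr.co_lt q hq.1), hqd, hde]
  rcases f.fr.co_eq (mul_mem hq.1 hbq.1) he.1 hpe with rfl | rfl
  · exact hpc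
  · exact hpc.mul_right hc

theorem exists_pair_lift {p : ℕ × ℕ} {ws : List (ℕ × ℕ)} (hws : ws ∈ evR) (hp : p ∈ ws) :
    ∃ c ∈ partOne z Q co, (∀ k < 256, ac c k = pr p k) ∧ c ^ 3 ∈ Q := by
  obtain ⟨p1, p2, q1, q2, hd, hr, h3⟩ := evR_pairs ws hws p hp
  have hok : okWord [p] = true := by simp [okWord, p1, p2, q1, q2]
  obtain ⟨c, hc, hcb, hck⟩ := f.exists_comm_lift hok (fun k hk => by
    show pr p (prs β k) = prs β (pr p k)
    rcases List.mem_append.1 hk with hk | hk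
    · rw [(evD_spec β f.mem).2.1 k (bR_mem k hk), (evD_spec β f.mem).2.1 _ (hr k (bR_mem k hk))]
    · rw [hd k (bD_mem k hk), hd _ ((evD_spec β f.mem).2.2 k (bD_mem k hk))])
  have hck' : ∀ k < 256, ac c k = pr p k := hck
  refine ⟨c, f.mem_one_of_fix hc hcb fun d hd' => by rw [hck' d (d0_lt d hd'), hd d hd'], hck', ?_⟩
  refine f.fr.faithful _ (hc.pow_left 3) fun k hk => ?_
  have lp := pr_lin p1 p2
  rw [show c ^ 3 = c * (c * c) by rw [pow_succ', pow_two], f.fr.ac_mul hc (hc.mul_left hc) hk,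
    f.fr.ac_mul hc hc hk, hck' k hk, hck' _ (lp.lt k hk), hck' _ (lp.lt _ (lp.lt k hk))]
  exact (ext_span (lp.comp (lp.comp lp)) Lin8.id' (by decide) h3 k (all_span k hk)).2

omit [Finite G] in
theorem com_RD {m₁ m₂ : G} (h₁ : m₁ ∈ partOne z Q co) (h₂ : m₂ ∈ partTwo z Q co) :
    m₁ * m₂ * m₁⁻¹ = m₂ ∨ m₁ * m₂ * m₁⁻¹ = m₂ * z := by
  obtain ⟨hz₁, hq₁⟩ := mem_partOne.1 h₁
  obtain ⟨hz₂, hq₂⟩ := mem_partTwo.1 h₂
  set u := m₂⁻¹ * (m₁ * m₂ * m₁⁻¹) with hu
  have hc2 : m₁ * m₂ * m₁⁻¹ ∈ partTwo z Q co := by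
    refine mem_partTwo.2 ⟨(hz₁.mul_left hz₂).mul_left hz₁.inv_left, fun q hq => ?_⟩
    have hq' : InR Q co (m₁⁻¹ * q * m₁⁻¹⁻¹) := f.inR_conj hz₁.inv_left (f.partOne_pres (inv_mem h₁)) hq
    rw [inv_inv] at hq'
    have := (hq₂ _ hq').map (MulAut.conj m₁).toMonoidHom
    simpa [mul_assoc] using this
  have hu2 : u ∈ partTwo z Q co := mul_mem (inv_mem h₂) hc2
  have hc1 : m₂⁻¹ * m₁ * m₂ ∈ partOne z Q co := by
    refine mem_partOne.2 ⟨(hz₂.inv_left.mul_left hz₁).mul_left hz₂, fun q hq => ?_⟩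
    have hq' : InD Q co (m₂ * q * m₂⁻¹) := f.inD_conj hz₂ (f.partTwo_pres h₂) hq
    have := (hq₁ _ hq').map (MulAut.conj m₂⁻¹).toMonoidHom
    simpa [mul_assoc] using this
  have hu1 : u ∈ partOne z Q co := by
    rw [hu, show m₂⁻¹ * (m₁ * m₂ * m₁⁻¹) = m₂⁻¹ * m₁ * m₂ * m₁⁻¹ by group]
    exact mul_mem hc1 (inv_mem h₁)
  have huQ : u ∈ Q := f.fr.faithful u (mem_partOne.1 hu1).1 fun k hk =>
    ext_all (f.fr.iso (mem_partOne.1 hu1).1).toLin8 Lin8.id' (f.partTwo_fix hu2) (f.partOne_fix hu1) k hk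
  rcases f.eq_z_of_RD ((f.one_inter huQ).1 hu1) ((f.two_inter huQ).1 hu2) with e | e <;>
    rw [hu, inv_mul_eq_iff_eq_mul] at e
  · exact Or.inl (by rw [e, mul_one])
  · exact Or.inr e

/-- The two parts commute. -/
theorem commute_parts {m₁ m₂ : G} (h₁ : m₁ ∈ partOne z Q co) (h₂ : m₂ ∈ partTwo z Q co) : Commute m₁ m₂ := by
  have hR : ∀ {q}, InR Q co q → Commute q m₂ := fun hq => ((mem_partTwo.1 h₂).2 _ hq).symm
  have hcube : ∀ {c}, c ∈ partOne z Q co → c ^ 3 ∈ Q → Commute c m₂ := by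
    intro c hc hc3
    refine mul_inv_eq_iff_eq_mul.1 ((f.com_RD hc h₂).resolve_right fun e => ?_)
    have hcz := (mem_partOne.1 hc).1
    have h3 : c ^ 3 * m₂ * (c ^ 3)⁻¹ = m₂ * z := by
      have ez : c * z * c⁻¹ = z := hcz.mul_inv_cancel
      have e' : ∀ w, c * (m₂ * w) * c⁻¹ = m₂ * z * (c * w * c⁻¹) := fun w => by
        rw [← e]; group
      calc c ^ 3 * m₂ * (c ^ 3)⁻¹ = c * (c * (c * m₂ * c⁻¹) * c⁻¹) * c⁻¹ := by
            simp only [pow_succ, pow_zero, one_mul]; group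
        _ = c * (m₂ * (z * z)) * c⁻¹ := by rw [e, e', ez]; group
        _ = m₂ * z := by rw [f.fr.es.sq, mul_one, e]
    rw [(hR ((f.one_inter hc3).1 (pow_mem hc 3))).mul_inv_cancel] at h3
    exact f.fr.es.ne (left_eq_mul.1 h3)
  obtain ⟨wR, hwR, i, hi, he⟩ := f.ac_commuting (mem_partOne.1 h₁).1 (f.partOne_b h₁)
  have key : ∀ w : List (ℕ × ℕ), (∀ p ∈ w, p ∈ wR) → okWord w = true →
      ∃ c ∈ partOne z Q co, (∀ k < 256, ac c k = prs w k) ∧ Commute c m₂ := by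
    intro w
    induction w with
    | nil => exact fun _ _ =>
        ⟨1, one_mem _, fun k hk => f.fr.ac_Q (one_mem Q) hk, Commute.one_left _⟩
    | cons p w ih =>
      intro hsub hok
      obtain ⟨c, hc, hck, hc3⟩ := f.exists_pair_lift hwR (hsub p List.mem_cons_self)
      obtain ⟨e, he', hek, hem⟩ := ih (fun q hq => hsub q (List.mem_cons_of_mem _ hq)) (okWord_cons hok).2
      refine ⟨c * e, mul_mem hc he', fun k hk => ?_, (hcube hc hc3).mul_left hem⟩
      rw [f.fr.ac_mul (mem_partOne.1 hc).1 (mem_partOne.1 he').1 hk, hek k hk,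
        hck _ ((prs_lin (okWord_cons hok).2).lt k hk)]
      rfl
  obtain ⟨c, hc, hck, hcm⟩ := key wR (fun _ h => h) (evR_spec wR hwR).1
  have hi0 : i = 0 := f.pow_eq hi (by norm_num) fun d hd => by
    have hd' := bD_mem d hd
    rw [pow_zero, f.fr.ac_Q (one_mem Q) (d0_lt d hd'), (f.act_pow i).2 d (d0_lt d hd')]
    have := he d (d0_lt d hd')
    rw [f.partOne_fix h₁ d hd', prs_append, (evR_spec wR hwR).2.1 _ (f.pw_d0 i d hd')] at this
    exact this.symm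
  subst hi0
  have hm : m₁ * c⁻¹ ∈ partOne z Q co := mul_mem h₁ (inv_mem hc)
  have hmQ : m₁ * c⁻¹ ∈ Q := f.fr.faithful _ (mem_partOne.1 hm).1 fun k hk => by
    have hcz := (mem_partOne.1 hc).1
    have hk' := f.fr.ac_lt hcz.inv_left hk
    rw [f.fr.ac_mul (mem_partOne.1 h₁).1 hcz.inv_left hk, he _ hk', prs_append, show
      prs (pwW β 0) (ac c⁻¹ k) = ac c⁻¹ k from rfl, ← hck _ hk', f.fr.ac_inv' hcz hk]
  have := (hR ((f.one_inter hmQ).1 hm)).mul_left hcm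
  rwa [inv_mul_cancel_right] at this

end Fx

end Cfsg.Agent.Lib.Co1Type32
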