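import Cfsg.Agent.Lib.Co1Type32.Elements
import Cfsg.Agent.Lib.HallJanko.Setup
import Cfsg.Agent.Lib.HJUniq.Main

/-!
# Conway type: `C(b) / ⟨b⟩` is of Hall-Janko type

Owner: helper32.
-/

set_option autoImplicit false
set_option maxRecDepth 100000
set_option linter.style.haveILetI false

namespace Cfsg.Agent.Lib.Co1Type32

open Cfsg.Agent.Lib.Co1Type31

variable {G : Type*} [Group G]

/-- The centraliser of `b`. -/
abbrev CB (b : G) : Subgroup G := Subgroup.centralizer ({b} : Set G)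

/-- `⟨b⟩` inside its centraliser. -/
abbrev KB (b : G) : Subgroup (CB b) := (Subgroup.zpowers b).subgroupOf (CB b)

theorem mem_CB {b g : G} : g ∈ CB b ↔ Commute g b := Subgroup.mem_centralizer_singleton_iff

theorem KB_le_center (b : G) : KB b ≤ Subgroup.center (CB b) := fun k hk => by
  refine Subgroup.mem_center_iff.2 fun g => Subtype.ext ?_
  obtain ⟨j, hj⟩ := Subgroup.mem_zpowers_iff.1 (Subgroup.mem_subgroupOf.1 hk)
  show (g : G) * (k : G) = (k : G) * (g : G)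
  rw [← hj]
  exact ((mem_CB.1 g.2).zpow_right j).eq

instance KB_normal (b : G) : (KB b).Normal := by
  refine ⟨fun k hk g => ?_⟩
  have := Subgroup.mem_center_iff.1 (KB_le_center b hk) g
  rwa [this, mul_inv_cancel_right]

variable {z : G} {Q : Subgroup G} {co : G → ℕ} {ac : G → ℕ → ℕ} {x n b : G} {β : List (ℕ × ℕ)}

namespace Fx

variable (f : Fx z Q co ac x n b β)
include f

theorem mk_eq_iff {p q : CB b} :
    QuotientGroup.mk' (KB b) p = QuotientGroup.mk' (KB b) q ↔ (p : G)⁻¹ * q ∈ Subgroup.zpowers b := by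
  rw [QuotientGroup.mk'_apply, QuotientGroup.mk'_apply, QuotientGroup.eq, Subgroup.mem_subgroupOf]
  simp

theorem eq_of_sq {a a' : G} (ha : a * a = 1) (ha' : a' * a' = 1) (hab : Commute a b)
    (h : a⁻¹ * a' ∈ Subgroup.zpowers b) : a' = a := by
  obtain ⟨i, hi, e⟩ := f.zpowers_cases h
  have e' : a' = a * b ^ i := by rw [← e, mul_inv_cancel_left]
  have h2 : b ^ (2 * i) = 1 := by
    rw [← ha', e']
    have hc := hab.pow_right i
    calc b ^ (2 * i) = a * a * (b ^ i * b ^ i) := by rw [ha, one_mul, two_mul, pow_add]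
      _ = a * b ^ i * (a * b ^ i) := hc.mul_mul_mul_comm a (b ^ i)
  have h5 : 5 ∣ 2 * i := f.ord ▸ orderOf_dvd_of_pow_eq_one h2
  have : i = 0 := by omega
  rw [e', this, pow_zero, mul_one]

theorem center_R {q : G} (hq : InR Q co q) (h : ∀ r, InR Q co r → Commute q r) : q = 1 ∨ q = z :=
  f.eq_z_of_RD hq (f.inD_of_commute hq.1 h)

theorem eq_center {m : G} (h1 : ∀ q, InR Q co q → Commute m q) (h2 : ∀ q, InD Q co q → Commute m q) :
    ∀ q ∈ Q, Commute m q := by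
  have hz : z ∈ Subgroup.centralizer ({m} : Set G) :=
    Subgroup.mem_centralizer_singleton_iff.2 (h1 z f.inR_z).eq.symm
  intro q hq
  refine (Subgroup.mem_centralizer_singleton_iff.1 (mem_of_codes f.fr hz (l := bR ++ bD) (fun a ha => ?_)
    q hq (all_span _ (f.fr.co_lt q hq)))).symm
  rcases List.mem_append.1 ha with ha | ha
  · obtain ⟨p, hp, e⟩ := f.exists_inR (bR_mem a ha)
    exact ⟨p, hp.1, e, Subgroup.mem_centralizer_singleton_iff.2 (h1 p hp).eq.symm⟩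
  · obtain ⟨p, hp, e⟩ := f.exists_inD (bD_mem a ha)
    exact ⟨p, hp.1, e, Subgroup.mem_centralizer_singleton_iff.2 (h2 p hp).eq.symm⟩

theorem z_mem : z ∈ CB b := mem_CB.2 f.bz.symm

theorem commute_z {c : CB b}
    (h : QuotientGroup.mk' (KB b) c * QuotientGroup.mk' (KB b) ⟨z, f.z_mem⟩ =
      QuotientGroup.mk' (KB b) ⟨z, f.z_mem⟩ * QuotientGroup.mk' (KB b) c) : Commute (c : G) z := by
  refine mul_inv_eq_iff_eq_mul.1 (f.eq_of_sq f.fr.es.sq (mul_self_conj f.fr.es.sq c) f.bz.symm ?_)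
  have e : QuotientGroup.mk' (KB b) (c * ⟨z, f.z_mem⟩ * c⁻¹) = QuotientGroup.mk' (KB b) ⟨z, f.z_mem⟩ := by
    rw [map_mul, map_mul, h, map_inv, mul_inv_cancel_right]
  exact f.mk_eq_iff.1 e.symm

variable [Finite G]

/-- `C(b) / ⟨b⟩` is the Hall-Janko group. -/
theorem quotJ2 : Cfsg.Spor.IsoJ2 (CB b ⧸ KB b) := by
  classical
  set π := QuotientGroup.mk' (KB b) with hπ
  set R₀ := (Q.subgroupOf (CB b)).map π with hR
  set z₀ := π ⟨z, f.z_mem⟩ with hz₀
  have hlift : ∀ {p q : CB b}, (p : G) ∈ Q → (q : G) ∈ Q → π p = π q → p = q := fun {p q} hp hq e =>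
    Subtype.ext (inv_mul_eq_one.1 (f.disjoint (f.mk_eq_iff.1 e) (mul_mem (inv_mem hp) hq)))
  have hzQ := f.fr.es.mem
  have hR' : ∀ {q : G}, InR Q co q → ∃ p : CB b, (p : G) = q ∧ π p ∈ R₀ := fun {q} hq =>
    ⟨⟨q, mem_CB.2 (f.inR_iff.1 hq).2.symm⟩, rfl, Subgroup.mem_map_of_mem π hq.1⟩
  have hinR : ∀ {p : CB b}, (p : G) ∈ Q → InR Q co (p : G) := fun {p} hp =>
    f.inR_iff.2 ⟨hp, (mem_CB.1 p.2).symm⟩
  have hz1 : z₀ ≠ 1 := fun e => f.fr.es.ne
    (congrArg Subtype.val (hlift (p := ⟨z, f.z_mem⟩) (q := 1) hzQ (one_mem Q) (e.trans (map_one π).symm)))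
  have hzsq : z₀ * z₀ = 1 := by
    rw [hz₀, ← map_mul, show (⟨z, f.z_mem⟩ * ⟨z, f.z_mem⟩ : CB b) = 1 from Subtype.ext f.fr.es.sq, map_one]
  have hcR : Nat.card R₀ = 32 := by
    rw [← f.card_R]
    refine (Nat.card_eq_of_bijective
      (fun q : ↥(Q ⊓ Subgroup.centralizer ({b} : Set G)) =>
        (⟨π ⟨q, q.2.2⟩, Subgroup.mem_map_of_mem π (Subgroup.mem_subgroupOf.2 q.2.1)⟩ : R₀)) ⟨?_, ?_⟩).symm
    · exact fun p q e => Subtype.ext (congrArg (fun c : CB b => (c : G))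
        (hlift (p := ⟨p, p.2.2⟩) (q := ⟨q, q.2.2⟩) p.2.1 q.2.1 (congrArg Subtype.val e)))
    · rintro ⟨_, p, hp, rfl⟩
      exact ⟨⟨p, hp, p.2⟩, rfl⟩
  have hcz : Nat.card (Subgroup.centralizer ({z₀} : Set (CB b ⧸ KB b))) = 1920 := by
    rw [← f.card_one]
    refine (Nat.card_eq_of_bijective
      (fun m : partOne z Q co => (⟨π ⟨m, mem_CB.2 (f.partOne_b m.2)⟩,
        Subgroup.mem_centralizer_singleton_iff.2 (by
          rw [hz₀, ← map_mul, ← map_mul]
          exact congrArg π (Subtype.ext (mem_partOne.1 m.2).1.eq))⟩ :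
        Subgroup.centralizer ({z₀} : Set (CB b ⧸ KB b)))) ⟨?_, ?_⟩).symm
    · intro m m' e
      have h1 : (m : G)⁻¹ * m' ∈ Subgroup.zpowers b := f.mk_eq_iff.1 (congrArg Subtype.val e)
      exact Subtype.ext (inv_mul_eq_one.1 (f.one_zpowers h1 (mul_mem (inv_mem m.2) m'.2)))
    · rintro ⟨c, hc⟩
      obtain ⟨c, rfl⟩ := QuotientGroup.mk'_surjective (KB b) c
      obtain ⟨m, hm, i, e⟩ := f.exists_decomp (f.commute_z (Subgroup.mem_centralizer_singleton_iff.1 hc))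
        (mem_CB.1 c.2)
      refine ⟨⟨m, hm⟩, Subtype.ext (f.mk_eq_iff.2 ?_)⟩
      show m⁻¹ * (c : G) ∈ _
      rw [e, inv_mul_cancel_left]
      exact Subgroup.npow_mem_zpowers b i
  have hbase : HallJanko.Base z₀ R₀ := by
    refine ⟨orderOf_eq_prime (by rw [pow_two, hzsq]) hz1,
      ⟨Subgroup.mem_map_of_mem π hzQ, hz1, hzsq, ?_, ?_, ?_⟩, hcR, hcz, ?_, ?_, ?_⟩
    · rintro _ ⟨p, hp, rfl⟩
      show π p * z₀ = z₀ * π p
      rw [hz₀, ← map_mul, ← map_mul]
      exact congrArg π (Subtype.ext (f.fr.es.comm _ hp).eq)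
    · rintro _ ⟨q, hq, rfl⟩ h
      have key : ∀ r, InR Q co r → Commute (q : G) r := fun r hr => by
        obtain ⟨p, rfl, hp⟩ := hR' hr
        refine (show Commute (p : G) (q : G) from
          congrArg Subtype.val (hlift (p := p * q) (q := q * p) (mul_mem hr.1 hq) (mul_mem hq hr.1) ?_)).symm
        rw [map_mul, map_mul]
        exact (h _ hp).eq
      rcases f.center_R (hinR hq) key with e | e
      · exact Or.inl (by rw [show q = 1 from Subtype.ext e, map_one])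
      · exact Or.inr (congrArg π (Subtype.ext e : q = ⟨z, f.z_mem⟩))
    · rintro _ ⟨q, hq, rfl⟩ _ ⟨v, hv, rfl⟩
      rcases f.fr.es.conj _ hq _ hv with e | e
      · exact Or.inl (by rw [← map_inv, ← map_mul, ← map_mul]; exact congrArg π (Subtype.ext e))
      · exact Or.inr (by rw [hz₀, ← map_inv, ← map_mul, ← map_mul, ← map_mul]; exact congrArg π (Subtype.ext e))
    · intro c hc
      obtain ⟨c, rfl⟩ := QuotientGroup.mk'_surjective (KB b) c
      rintro _ ⟨q, hq, rfl⟩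
      refine ⟨c * q * c⁻¹, f.fr.norm _ (f.commute_z hc.eq) _ hq, ?_⟩
      rw [map_mul, map_mul, map_inv]
    · intro c hc
      obtain ⟨c, rfl⟩ := QuotientGroup.mk'_surjective (KB b) c
      have hcz' := f.commute_z (hc _ (Subgroup.mem_map_of_mem π hzQ)).eq
      obtain ⟨m, hm, i, e⟩ := f.exists_decomp hcz' (mem_CB.1 c.2)
      have hmc : π c = π ⟨m, mem_CB.2 (f.partOne_b hm)⟩ := f.mk_eq_iff.2 (by
        show (c : G)⁻¹ * m ∈ _
        rw [e, mul_inv_rev, inv_mul_cancel_right]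
        exact inv_mem (Subgroup.npow_mem_zpowers b i))
      have hmz := (mem_partOne.1 hm).1
      have key : ∀ q, InR Q co q → Commute m q := fun q hq => by
        obtain ⟨p, rfl, hp⟩ := hR' hq
        refine mul_inv_eq_iff_eq_mul.1 (congrArg Subtype.val
          (hlift (p := ⟨m, mem_CB.2 (f.partOne_b hm)⟩ * p * ⟨m, mem_CB.2 (f.partOne_b hm)⟩⁻¹) (q := p)
            (f.fr.norm m hmz _ hq.1) hq.1 ?_))
        rw [map_mul, map_mul, map_inv, ← hmc, (hc _ hp).mul_inv_cancel]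
      rcases f.fr.cent m (f.eq_center key (mem_partOne.1 hm).2) with rfl | rfl
      · exact Or.inl (hmc.trans (map_one π))
      · exact Or.inr hmc
    · obtain ⟨g, hg, hgz⟩ := f.exists_fuse
      refine ⟨π ⟨g, mem_CB.2 hg⟩, ?_, ?_⟩ <;> rw [hz₀, ← map_inv, ← map_mul, ← map_mul]
      · exact Subgroup.mem_map_of_mem π (by rw [Subgroup.mem_subgroupOf]; exact hgz ▸ f.duo.xQ)
      · intro e
        have h1 : g * z * g⁻¹ ∈ Q := hgz ▸ f.duo.xQ
        exact f.duo.x_ne.2 (hgz.symm.trans (congrArg Subtype.val (hlift h1 hzQ e)))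
  obtain ⟨u, hu⟩ := hbase.exists_five
  obtain ⟨t, hto, -, htb, hnc⟩ := f.exists_second
  have ht2 : t * t = 1 := by rw [← pow_two, ← hto, pow_orderOf_eq_one]
  have hto' : orderOf (π ⟨t, mem_CB.2 htb⟩) = 2 := by
    refine orderOf_eq_prime ?_ fun e => ?_
    · rw [pow_two, ← map_mul, show (⟨t, mem_CB.2 htb⟩ * ⟨t, mem_CB.2 htb⟩ : CB b) = 1 from Subtype.ext ht2,
        map_one]
    · have h1 : (1 : G)⁻¹ * t ∈ Subgroup.zpowers b :=
        (f.mk_eq_iff (p := 1) (q := ⟨t, mem_CB.2 htb⟩)).1 (by rw [map_one]; exact e.symm)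
      have := f.eq_of_sq (mul_one 1) ht2 (Commute.one_left b) h1
      rw [this, orderOf_one] at hto
      omega
  have hncj : ¬ IsConj z₀ (π ⟨t, mem_CB.2 htb⟩) := fun h => by
    obtain ⟨k, hk⟩ := isConj_iff.1 h
    obtain ⟨k, rfl⟩ := QuotientGroup.mk'_surjective (KB b) k
    rw [hz₀, ← map_inv, ← map_mul, ← map_mul] at hk
    have := f.eq_of_sq ht2 (mul_self_conj f.fr.es.sq (k : G)) htb (f.mk_eq_iff.1 hk.symm)
    exact hnc (isConj_iff.2 ⟨k, this⟩)
  obtain ⟨s, hs⟩ := hu.exists_setting ⟨_, _, hbase.ord, hto', hncj⟩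
  exact HJUniq.isoJ2 hs

end Fx

end Cfsg.Agent.Lib.Co1Type32
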